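import Mathlib
import Cfsg.Agent.Lib.Helper5.LBal.Lift

set_option autoImplicit false

/-! Lifting a subgroup through a homomorphism with central kernel of coprime order. -/

namespace Cfsg.Agent.Lib.Helper5.UBal

open Cfsg.Agent.Lib.Helper5.LBal

section CopLift

set_option maxHeartbeats 800000 in
theorem exists_coprime_lift {G G' : Type*} [Group G] [Finite G] [Group G'] (π : G →* G')
    (hker : π.ker ≤ Subgroup.center G)
    (D : Subgroup G') (hD : D ≤ π.range) (hcop : (Nat.card π.ker).Coprime (Nat.card D)) :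
    ∃ H : Subgroup G, Nat.card H = Nat.card D ∧ H.map π = D ∧
      ∀ s, s ∈ H ↔ (π s ∈ D ∧ s ^ Nat.card D = 1) := by
  classical
  set P : Subgroup G := D.comap π with hP
  set Z : Subgroup ↥P := π.ker.subgroupOf P with hZ
  let πP : ↥P →* ↥D := (π.comp P.subtype).codRestrict D (fun s => s.2)
  have hπP : ∀ s : ↥P, ((πP s : ↥D) : G') = π (s : G) := fun s => rfl
  have hsurj : Function.Surjective πP := by
    intro d
    obtain ⟨s, hs⟩ := hD d.2
    refine ⟨⟨s, ?_⟩, ?_⟩
    · show π s ∈ D
      rw [hs]
      exact d.2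
    · apply Subtype.ext
      rw [hπP]
      exact hs
  have hkerP : πP.ker = Z := by
    ext s
    rw [MonoidHom.mem_ker, hZ, Subgroup.mem_subgroupOf, MonoidHom.mem_ker]
    constructor
    · intro h
      have := congrArg Subtype.val h
      rw [hπP, Subgroup.coe_one] at this
      exact this
    · intro h
      apply Subtype.ext
      rw [hπP, Subgroup.coe_one]
      exact h
  have hidx : Z.index = Nat.card D := by
    rw [← hkerP, Subgroup.index_ker, MonoidHom.range_eq_top.2 hsurj]
    exact Subgroup.card_top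
  have hZc : Z ≤ Subgroup.center ↥P := by
    intro z hz
    rw [hZ, Subgroup.mem_subgroupOf] at hz
    rw [Subgroup.mem_center_iff]
    intro g
    apply Subtype.ext
    rw [Subgroup.coe_mul, Subgroup.coe_mul]
    exact Subgroup.mem_center_iff.1 (hker hz) g
  have hkerP' : π.ker ≤ P := by
    intro z hz
    show π z ∈ D
    rw [MonoidHom.mem_ker.1 hz]
    exact D.one_mem
  have hZcard : Nat.card Z = Nat.card π.ker := by
    rw [hZ]
    exact Nat.card_congr (Subgroup.subgroupOfEquivOfLe hkerP').toEquiv
  have hcop' : (Nat.card Z).Coprime Z.index := by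
    rw [hZcard, hidx]
    exact hcop
  obtain ⟨H, hcard, hmem, hdec⟩ := coprime_complement Z hZc hcop'
  rw [hidx] at hcard hmem
  have hmem' : ∀ s, s ∈ H.map P.subtype ↔ (π s ∈ D ∧ s ^ Nat.card D = 1) := by
    intro s
    constructor
    · rintro ⟨t, ht, rfl⟩
      refine ⟨t.2, ?_⟩
      have := (hmem t).1 ht
      have h2 := congrArg Subtype.val this
      rw [Subgroup.coe_pow, Subgroup.coe_one] at h2
      exact h2
    · rintro ⟨h1, h2⟩
      refine ⟨⟨s, h1⟩, (hmem _).2 ?_, rfl⟩
      apply Subtype.ext
      rw [Subgroup.coe_pow, Subgroup.coe_one]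
      exact h2
  refine ⟨H.map P.subtype, ?_, ?_, hmem'⟩
  · rw [Subgroup.card_map_of_injective P.subtype_injective, hcard]
  · apply le_antisymm
    · rintro _ ⟨s, hs, rfl⟩
      exact ((hmem' s).1 hs).1
    · intro d hd
      obtain ⟨s, hs⟩ := hD hd
      have hsP : s ∈ P := by
        show π s ∈ D
        rw [hs]
        exact hd
      obtain ⟨z, hz, h, hh, hzh⟩ := hdec ⟨s, hsP⟩
      refine ⟨(h : G), ⟨h, hh, rfl⟩, ?_⟩
      have hz' := hz
      rw [hZ, Subgroup.mem_subgroupOf, MonoidHom.mem_ker] at hz'
      have := congrArg (fun t : ↥P => π (t : G)) hzh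
      simp only [Subgroup.coe_mul, map_mul] at this
      rw [hz', one_mul] at this
      rw [← this]
      exact hs

end CopLift

end Cfsg.Agent.Lib.Helper5.UBal
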