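import Mathlib
import Cfsg.Agent.Lib.Helper5.PSUField6
import Cfsg.Agent.Lib.Helper1.SUCenter

set_option autoImplicit false

/-! The special unitary group over the fixed field of a field automorphism of odd order, embedded
in the special unitary group, and its image in the projective group. -/

namespace Cfsg.Agent.Lib.Helper5.UBal

open Matrix Cfsg.Agent.Lib.Helper5.PSLCoset Cfsg.Agent.Lib.Helper5.PSUAut
  Cfsg.Agent.Lib.Helper5.UAut Cfsg.Agent.Lib.Helper5.PSUField Cfsg.Agent.Lib.Helper5.SLnAut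

section FieldU1
variable {n : ℕ} {F : Type*} [Field F] [Fintype F] {q q₀ : ℕ} {E : Type*} [Field E] [Fintype E]
  {ι : E →+* F} {τ σ₀ : F ≃+* F} {σ₀' : E ≃+* E}

theorem mem_SU_iff_isU (hσ₀q : ∀ a : F, σ₀ a = a ^ q) (s : SpecialLinearGroup (Fin n) F) :
    s ∈ Cfsg.SU n F q ↔ IsU σ₀ (s : Matrix (Fin n) (Fin n) F) := by
  have h1 := mem_GU_iff σ₀ q hσ₀q (Matrix.SpecialLinearGroup.toGL s)
  rw [Matrix.SpecialLinearGroup.coe_GL_coe_matrix] at h1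
  exact h1

/-- the embedding of the special unitary group over the fixed field -/
def emS (D : FD ι τ σ₀ σ₀') (hσ₀q : ∀ a : F, σ₀ a = a ^ q) (hσ₀'q : ∀ a : E, σ₀' a = a ^ q₀) :
    ↥(Cfsg.SU n E q₀) →* ↥(Cfsg.SU n F q) where
  toFun s₀ := ⟨Matrix.SpecialLinearGroup.map ι s₀.1, by
    rw [mem_SU_iff_isU hσ₀q]
    show IsU σ₀ (((s₀ : SpecialLinearGroup (Fin n) E) : Matrix (Fin n) (Fin n) E).map ι)
    exact (D.isU_map _).2 ((mem_SU_iff_isU hσ₀'q s₀.1).1 s₀.2)⟩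
  map_one' := by
    apply Subtype.ext
    exact map_one _
  map_mul' a b := by
    apply Subtype.ext
    exact map_mul _ _ _

theorem emS_coe (D : FD ι τ σ₀ σ₀') (hσ₀q : ∀ a : F, σ₀ a = a ^ q)
    (hσ₀'q : ∀ a : E, σ₀' a = a ^ q₀) (s₀ : ↥(Cfsg.SU n E q₀)) :
    (((emS D hσ₀q hσ₀'q s₀ : ↥(Cfsg.SU n F q)) : SpecialLinearGroup (Fin n) F) :
      Matrix (Fin n) (Fin n) F)
      = ((s₀ : SpecialLinearGroup (Fin n) E) : Matrix (Fin n) (Fin n) E).map ι := rfl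

theorem emS_injective (D : FD ι τ σ₀ σ₀') (hσ₀q : ∀ a : F, σ₀ a = a ^ q)
    (hσ₀'q : ∀ a : E, σ₀' a = a ^ q₀) :
    Function.Injective (emS (n := n) D hσ₀q hσ₀'q) := by
  intro a b hab
  apply Subtype.ext
  apply Subtype.ext
  have h1 := congrArg (fun s : ↥(Cfsg.SU n F q) =>
    ((s : SpecialLinearGroup (Fin n) F) : Matrix (Fin n) (Fin n) F)) hab
  beta_reduce at h1
  rw [emS_coe, emS_coe] at h1
  exact Matrix.map_injective ι.injective h1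

/-- matrices fixed by the field automorphism come from the small group -/
theorem exists_emS_of_fixed (D : FD ι τ σ₀ σ₀') (hσ₀q : ∀ a : F, σ₀ a = a ^ q)
    (hσ₀'q : ∀ a : E, σ₀' a = a ^ q₀) (s : ↥(Cfsg.SU n F q))
    (hs : ((s : SpecialLinearGroup (Fin n) F) : Matrix (Fin n) (Fin n) F).map τ
      = ((s : SpecialLinearGroup (Fin n) F) : Matrix (Fin n) (Fin n) F)) :
    ∃ s₀ : ↥(Cfsg.SU n E q₀), emS D hσ₀q hσ₀'q s₀ = s := by
  obtain ⟨M₀, hM₀⟩ := D.exists_map _ hs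
  have hdet : M₀.det = 1 := by
    apply ι.injective
    rw [map_one, RingHom.map_det, RingHom.mapMatrix_apply, ← hM₀]
    exact (s : SpecialLinearGroup (Fin n) F).2
  have hU : IsU σ₀' M₀ := by
    rw [← D.isU_map, ← hM₀]
    exact (mem_SU_iff_isU hσ₀q s.1).1 s.2
  refine ⟨⟨⟨M₀, hdet⟩, (mem_SU_iff_isU hσ₀'q _).2 hU⟩, ?_⟩
  apply Subtype.ext
  apply Subtype.ext
  rw [emS_coe]
  exact hM₀.symm

/-- the image of the small special unitary group in the projective group -/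
noncomputable def phiU (D : FD ι τ σ₀ σ₀') (hσ₀q : ∀ a : F, σ₀ a = a ^ q)
    (hσ₀'q : ∀ a : E, σ₀' a = a ^ q₀) : ↥(Cfsg.SU n E q₀) →* Cfsg.PSU n F q :=
  (QuotientGroup.mk' (Subgroup.center ↥(Cfsg.SU n F q))).comp (emS D hσ₀q hσ₀'q)

theorem phiU_apply (D : FD ι τ σ₀ σ₀') (hσ₀q : ∀ a : F, σ₀ a = a ^ q)
    (hσ₀'q : ∀ a : E, σ₀' a = a ^ q₀) (s₀ : ↥(Cfsg.SU n E q₀)) :
    phiU D hσ₀q hσ₀'q s₀ = (QuotientGroup.mk (emS D hσ₀q hσ₀'q s₀) : Cfsg.PSU n F q) := rfl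

/-- the image is fixed by the field automorphism -/
theorem fa_phiU (D : FD ι τ σ₀ σ₀') (hσ₀q : ∀ a : F, σ₀ a = a ^ q)
    (hσ₀'q : ∀ a : E, σ₀' a = a ^ q₀) (s₀ : ↥(Cfsg.SU n E q₀)) :
    (fa τ : MulAut (Cfsg.PSU n F q)) (phiU D hσ₀q hσ₀'q s₀) = phiU D hσ₀q hσ₀'q s₀ := by
  rw [phiU_apply, fa_mk]
  congr 1
  apply Subtype.ext
  apply Subtype.ext
  show ((fieldAut τ (emS D hσ₀q hσ₀'q s₀).1 : SpecialLinearGroup (Fin n) F) :
    Matrix (Fin n) (Fin n) F) = _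
  rw [fieldAut_coe, emS_coe]
  exact D.map_iota _

end FieldU1

end Cfsg.Agent.Lib.Helper5.UBal
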