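import Mathlib
import Cfsg.Agent.Lib.Helper5.UBal.FieldU1
import Cfsg.Agent.Lib.Helper5.LBal.SLTools

set_option autoImplicit false

/-! The automorphism of the special unitary group induced by a field automorphism, the center of
the special unitary group, and the normality of the image of the small group in the group of
fixed points. -/

namespace Cfsg.Agent.Lib.Helper5.UBal

open Matrix Cfsg.Agent.Lib.Helper5.PSLCoset Cfsg.Agent.Lib.Helper5.PSUAut
  Cfsg.Agent.Lib.Helper5.UAut Cfsg.Agent.Lib.Helper5.PSUField Cfsg.Agent.Lib.Helper5.SLnAut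
  Cfsg.Agent.Lib.Helper5.LBal

section FieldU2
variable {n : ℕ} {F : Type*} [Field F] [Fintype F] {q q₀ : ℕ} {E : Type*} [Field E] [Fintype E]
  {ι : E →+* F} {τ σ₀ : F ≃+* F} {σ₀' : E ≃+* E}

/-- the automorphism of the special unitary group induced by a field automorphism -/
def thetaF (τ : F ≃+* F) : MulAut ↥(Cfsg.SU n F q) :=
  resSU ⟨fieldAut τ, fieldAut_mem_stab τ⟩

theorem thetaF_coe (τ : F ≃+* F) (s : ↥(Cfsg.SU n F q)) :
    (((thetaF τ s : ↥(Cfsg.SU n F q)) : SpecialLinearGroup (Fin n) F) : Matrix (Fin n) (Fin n) F)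
      = ((s : SpecialLinearGroup (Fin n) F) : Matrix (Fin n) (Fin n) F).map τ := by
  unfold thetaF
  rw [resSU_apply, fieldAut_coe]

theorem fa_mk' (τ : F ≃+* F) (s : ↥(Cfsg.SU n F q)) :
    (fa τ : MulAut (Cfsg.PSU n F q)) (QuotientGroup.mk s) = QuotientGroup.mk (thetaF τ s) := rfl

theorem thetaF_emS (D : FD ι τ σ₀ σ₀') (hσ₀q : ∀ a : F, σ₀ a = a ^ q)
    (hσ₀'q : ∀ a : E, σ₀' a = a ^ q₀) (s₀ : ↥(Cfsg.SU n E q₀)) :
    thetaF τ (emS D hσ₀q hσ₀'q s₀) = emS D hσ₀q hσ₀'q s₀ := by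
  apply Subtype.ext
  apply Subtype.ext
  rw [thetaF_coe, emS_coe]
  exact D.map_iota _

theorem exists_emS_of_thetaF (D : FD ι τ σ₀ σ₀') (hσ₀q : ∀ a : F, σ₀ a = a ^ q)
    (hσ₀'q : ∀ a : E, σ₀' a = a ^ q₀) (s : ↥(Cfsg.SU n F q)) (hs : thetaF τ s = s) :
    ∃ s₀ : ↥(Cfsg.SU n E q₀), emS D hσ₀q hσ₀'q s₀ = s := by
  apply exists_emS_of_fixed D hσ₀q hσ₀'q s
  rw [← thetaF_coe, hs]

/-- a lift of a fixed point is fixed up to a central element -/
theorem lift_mem_center (τ : F ≃+* F) (s : ↥(Cfsg.SU n F q))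
    (h : (fa τ : MulAut (Cfsg.PSU n F q)) (QuotientGroup.mk s) = QuotientGroup.mk s) :
    s⁻¹ * thetaF τ s ∈ Subgroup.center ↥(Cfsg.SU n F q) := by
  rw [fa_mk'] at h
  exact QuotientGroup.eq.1 h.symm

/-- the image of the small group is normalized by the fixed points -/
theorem conj_mem_LU (D : FD ι τ σ₀ σ₀') (hσ₀q : ∀ a : F, σ₀ a = a ^ q)
    (hσ₀'q : ∀ a : E, σ₀' a = a ^ q₀) {c y : Cfsg.PSU n F q}
    (hc : (fa τ : MulAut (Cfsg.PSU n F q)) c = c) (hy : y ∈ (phiU D hσ₀q hσ₀'q).range) :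
    c * y * c⁻¹ ∈ (phiU D hσ₀q hσ₀'q).range := by
  obtain ⟨s, rfl⟩ := QuotientGroup.mk_surjective c
  obtain ⟨t₀, rfl⟩ := hy
  have hz := lift_mem_center τ s hc
  obtain ⟨z, hzd⟩ : ∃ z, z = s⁻¹ * thetaF τ s := ⟨_, rfl⟩
  rw [← hzd] at hz
  have hθs : thetaF τ s = s * z := by rw [hzd]; group
  have hfix : thetaF τ (s * emS D hσ₀q hσ₀'q t₀ * s⁻¹) = s * emS D hσ₀q hσ₀'q t₀ * s⁻¹ := by
    rw [map_mul, map_mul, map_inv, thetaF_emS, hθs]
    have hcomm : z * emS D hσ₀q hσ₀'q t₀ = emS D hσ₀q hσ₀'q t₀ * z :=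
      (Subgroup.mem_center_iff.1 hz _).symm
    calc s * z * emS D hσ₀q hσ₀'q t₀ * (s * z)⁻¹
        = s * (z * emS D hσ₀q hσ₀'q t₀) * z⁻¹ * s⁻¹ := by group
      _ = s * emS D hσ₀q hσ₀'q t₀ * s⁻¹ := by rw [hcomm]; group
  obtain ⟨u₀, hu₀⟩ := exists_emS_of_thetaF D hσ₀q hσ₀'q _ hfix
  refine ⟨u₀, ?_⟩
  rw [phiU_apply, hu₀, phiU_apply]
  rfl

/-- central elements of the special unitary group are scalar matrices -/
theorem center_scalar (hF : Fintype.card F = q ^ 2) (hn : 3 ≤ n) (z : ↥(Cfsg.SU n F q))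
    (hz : z ∈ Subgroup.center ↥(Cfsg.SU n F q)) :
    ∃ l : F, ((z : SpecialLinearGroup (Fin n) F) : Matrix (Fin n) (Fin n) F)
      = l • (1 : Matrix (Fin n) (Fin n) F) ∧ l ^ (q + 1) = 1 ∧ l ^ n = 1 := by
  have h1 := Cfsg.Agent.Lib.Helper1.SUCenter.central_scalar hF hn z hz ⟨0, by omega⟩
  obtain ⟨h2, h3⟩ := Cfsg.Agent.Lib.Helper1.SUCenter.scalar_props hF z _ ⟨0, by omega⟩ h1
  refine ⟨_, h1, ?_, h3⟩
  unfold Cfsg.Agent.Lib.Helper1.HermCount.nrm at h2
  rw [pow_succ']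
  exact h2

/-- scalar matrices in the special unitary group are central -/
theorem mem_center_of_scalar (z : ↥(Cfsg.SU n F q)) (l : F)
    (hz : ((z : SpecialLinearGroup (Fin n) F) : Matrix (Fin n) (Fin n) F)
      = l • (1 : Matrix (Fin n) (Fin n) F)) : z ∈ Subgroup.center ↥(Cfsg.SU n F q) := by
  rw [Subgroup.mem_center_iff]
  intro g
  apply Subtype.ext
  apply Subtype.ext
  show ((g : SpecialLinearGroup (Fin n) F) : Matrix (Fin n) (Fin n) F)
      * ((z : SpecialLinearGroup (Fin n) F) : Matrix (Fin n) (Fin n) F)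
    = ((z : SpecialLinearGroup (Fin n) F) : Matrix (Fin n) (Fin n) F)
      * ((g : SpecialLinearGroup (Fin n) F) : Matrix (Fin n) (Fin n) F)
  rw [hz]
  simp

/-- two elements of order dividing the characteristic with the same image in the projective
group are equal -/
theorem eq_of_mk_eq_of_pow_char (hF : Fintype.card F = q ^ 2) (hn : 3 ≤ n) (r : ℕ)
    [Fact r.Prime] [CharP F r] (a l : ↥(Cfsg.SU n F q))
    (h : (QuotientGroup.mk a : Cfsg.PSU n F q) = QuotientGroup.mk l) (ha : a ^ r = 1)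
    (hl : l ^ r = 1) : a = l := by
  have h' := QuotientGroup.eq.1 h
  obtain ⟨t, ht⟩ : ∃ t : ↥(Cfsg.SU n F q), t = a⁻¹ * l := ⟨_, rfl⟩
  rw [← ht] at h'
  obtain ⟨ζ, hζ, -, -⟩ := center_scalar hF hn t h'
  have hal : a * t = l := by rw [ht]; group
  have hc : Commute a t := Subgroup.mem_center_iff.1 h' a
  have hz : t ^ r = 1 := by
    have h1 : (a * t) ^ r = 1 := by rw [hal, hl]
    rw [hc.mul_pow, ha, one_mul] at h1
    exact h1
  have h4 : ((t : SpecialLinearGroup (Fin n) F) : Matrix (Fin n) (Fin n) F) ^ r = 1 := by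
    have := congrArg (fun s : ↥(Cfsg.SU n F q) =>
      ((s : SpecialLinearGroup (Fin n) F) : Matrix (Fin n) (Fin n) F)) hz
    simpa using this
  rw [hζ, smul_pow, one_pow] at h4
  have h6 := congrFun (congrFun h4 ⟨0, by omega⟩) ⟨0, by omega⟩
  rw [Matrix.smul_apply, Matrix.one_apply_eq, smul_eq_mul, mul_one] at h6
  have hζ1 : ζ = 1 := eq_one_of_pow_char r h6
  rw [hζ1, one_smul] at hζ
  have h7 : t = 1 := by
    apply Subtype.ext
    apply Subtype.ext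
    exact hζ
  rw [← hal, h7, mul_one]

end FieldU2

end Cfsg.Agent.Lib.Helper5.UBal
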