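import Mathlib
import Cfsg.Agent.Lib.Helper5.UBal.FieldU2
import Cfsg.Agent.Lib.Helper5.LBal.FieldC

set_option autoImplicit false

/-! If `p` divides the number of fixed points of the standard field automorphism of order `p`
of `PSU_n(q)`, then `p` divides the order of the image of `SU_n(q₀)`. -/

namespace Cfsg.Agent.Lib.Helper5.UBal

open Matrix Cfsg.Agent.Lib.Helper5.PSLCoset Cfsg.Agent.Lib.Helper5.PSUAut
  Cfsg.Agent.Lib.Helper5.UAut Cfsg.Agent.Lib.Helper5.PSUField Cfsg.Agent.Lib.Helper5.SLnAut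
  Cfsg.Agent.Lib.Helper5.LBal

section FieldU3
variable {n : ℕ} {F : Type*} [Field F] [Fintype F] {q q₀ : ℕ} {E : Type*} [Field E] [Fintype E]
  {ι : E →+* F} {τ σ₀ : F ≃+* F} {σ₀' : E ≃+* E}

theorem finite_SU : Finite ↥(Cfsg.SU n F q) := by
  haveI : Finite (Matrix (Fin n) (Fin n) F) := by unfold Matrix; infer_instance
  exact Finite.of_injective (fun s : ↥(Cfsg.SU n F q) =>
    ((s : SpecialLinearGroup (Fin n) F) : Matrix (Fin n) (Fin n) F))
    (fun a b h => Subtype.ext (Subtype.ext h))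

theorem finite_PSU : Finite (Cfsg.PSU n F q) := by
  haveI := finite_SU (n := n) (F := F) (q := q)
  exact Finite.of_surjective _ (QuotientGroup.mk_surjective
    (s := Subgroup.center ↥(Cfsg.SU n F q)))

/-- an element of the image of order `p`, when `p` divides `q₀ + 1` -/
theorem dvd_card_LU_diag (D : FD ι τ σ₀ σ₀') (hσ₀q : ∀ a : F, σ₀ a = a ^ q)
    (hσ₀'q : ∀ a : E, σ₀' a = a ^ q₀) (hF : Fintype.card F = q ^ 2)
    (hE : Fintype.card E = q₀ ^ 2) (hn : 3 ≤ n) (p : ℕ) [Fact p.Prime] (hp : p ∣ q₀ + 1) :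
    p ∣ Nat.card ↥(phiU (n := n) D hσ₀q hσ₀'q).range := by
  classical
  haveI := finite_PSU (n := n) (F := F) (q := q)
  have hpp : p.Prime := Fact.out
  have hq₀ : 2 ≤ q₀ := Cfsg.Agent.Lib.Helper1.HermCount.two_le_q hE
  have hcardU : Nat.card Eˣ = q₀ ^ 2 - 1 := by
    rw [Nat.card_eq_fintype_card, Fintype.card_units, hE]
  have hdvdU : p ∣ Nat.card Eˣ := by
    rw [hcardU]
    have h1 : q₀ ^ 2 - 1 = (q₀ + 1) * (q₀ - 1) := by
      zify [show 1 ≤ q₀ ^ 2 from Nat.one_le_pow _ _ (by omega), show 1 ≤ q₀ by omega]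
      ring
    rw [h1]
    exact Dvd.dvd.mul_right hp _
  obtain ⟨ζ, hζ⟩ := exists_prime_orderOf_dvd_card' p hdvdU
  have hζp : (ζ : E) ^ p = 1 := by
    have := pow_orderOf_eq_one ζ
    rw [hζ] at this
    rw [← Units.val_pow_eq_pow_val, this, Units.val_one]
  have hζ1 : (ζ : E) ≠ 1 := by
    intro h1
    have h2 : ζ = 1 := Units.ext h1
    rw [h2, orderOf_one] at hζ
    exact hpp.one_lt.ne hζ
  have hζq : (ζ : E) ^ (q₀ + 1) = 1 := by
    obtain ⟨k, hk⟩ := hp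
    rw [hk, pow_mul, hζp, one_pow]
  have hζ0 : (ζ : E) ≠ 0 := ζ.ne_zero
  obtain ⟨i0, hi0⟩ : ∃ i0 : Fin n, i0 = ⟨0, by omega⟩ := ⟨_, rfl⟩
  obtain ⟨i1, hi1⟩ : ∃ i1 : Fin n, i1 = ⟨1, by omega⟩ := ⟨_, rfl⟩
  obtain ⟨i2, hi2⟩ : ∃ i2 : Fin n, i2 = ⟨2, by omega⟩ := ⟨_, rfl⟩
  have h01 : i0 ≠ i1 := by rw [hi0, hi1]; simp
  have h20 : i2 ≠ i0 := by rw [hi0, hi2]; simp
  have h21 : i2 ≠ i1 := by rw [hi1, hi2]; simp
  have hnrm : ∀ i, Cfsg.Agent.Lib.Helper1.HermCount.nrm q₀ (diagV i0 i1 (ζ : E) i) = 1 := by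
    intro i
    unfold Cfsg.Agent.Lib.Helper1.HermCount.nrm
    rw [← pow_succ']
    unfold diagV
    rw [mul_pow]
    have hinv : ((ζ : E)⁻¹) ^ (q₀ + 1) = 1 := by rw [inv_pow, hζq, inv_one]
    split_ifs <;> simp [hζq, hinv]
  obtain ⟨d₀, hd₀⟩ : ∃ d₀ : ↥(Cfsg.SU n E q₀), d₀ =
      Cfsg.Agent.Lib.Helper1.SUCenter.diagSU (diagV i0 i1 (ζ : E)) hnrm (prod_diagV hζ0) :=
    ⟨_, rfl⟩
  have hd₀coe : ((d₀ : SpecialLinearGroup (Fin n) E) : Matrix (Fin n) (Fin n) E)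
      = Matrix.diagonal (diagV i0 i1 (ζ : E)) := by
    rw [hd₀]
    rfl
  have hd₀p : d₀ ^ p = 1 := by
    apply Subtype.ext
    apply Subtype.ext
    rw [Subgroup.coe_pow, Matrix.SpecialLinearGroup.coe_pow, hd₀coe, Matrix.diagonal_pow]
    rw [Subgroup.coe_one, Matrix.SpecialLinearGroup.coe_one, ← Matrix.diagonal_one]
    congr 1
    ext i
    rw [Pi.pow_apply, diagV_pow hζp]
  have hne : phiU D hσ₀q hσ₀'q d₀ ≠ 1 := by
    intro h1
    rw [phiU_apply, QuotientGroup.eq_one_iff] at h1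
    obtain ⟨l, hl, -, -⟩ := center_scalar hF hn _ h1
    rw [emS_coe, hd₀coe] at hl
    have e0 := congrFun (congrFun hl i0) i0
    have e2 := congrFun (congrFun hl i2) i2
    rw [Matrix.map_apply, Matrix.diagonal_apply_eq, Matrix.smul_apply, Matrix.one_apply_eq,
      smul_eq_mul, mul_one] at e0 e2
    rw [diagV_same0 h01] at e0
    rw [diagV_other h20 h21, map_one] at e2
    rw [← e2] at e0
    exact hζ1 (ι.injective (by rw [e0, map_one]))
  have hord : orderOf (phiU D hσ₀q hσ₀'q d₀) = p := by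
    apply orderOf_eq_prime
    · rw [← map_pow, hd₀p, map_one]
    · exact hne
  have h3 : orderOf (⟨phiU D hσ₀q hσ₀'q d₀, ⟨d₀, rfl⟩⟩ : ↥(phiU (n := n) D hσ₀q hσ₀'q).range)
      ∣ Nat.card ↥(phiU (n := n) D hσ₀q hσ₀'q).range := orderOf_dvd_natCard _
  rw [← Subgroup.orderOf_coe] at h3
  rw [← hord]
  exact h3

end FieldU3

end Cfsg.Agent.Lib.Helper5.UBal
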