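import Mathlib
import Cfsg.Agent.Lib.Helper5.UBal.FieldU3

set_option autoImplicit false

/-! If `p` divides the number of fixed points of the standard field automorphism of order `p`
of `PSU_n(q)`, then `p` divides the order of the image of `SU_n(q₀)`. -/

namespace Cfsg.Agent.Lib.Helper5.UBal

open Matrix Cfsg.Agent.Lib.Helper5.PSLCoset Cfsg.Agent.Lib.Helper5.PSUAut
  Cfsg.Agent.Lib.Helper5.UAut Cfsg.Agent.Lib.Helper5.PSUField Cfsg.Agent.Lib.Helper5.SLnAut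
  Cfsg.Agent.Lib.Helper5.LBal

section FieldU4
variable {n : ℕ} {F : Type*} [Field F] [Fintype F] {q q₀ : ℕ} {E : Type*} [Field E] [Fintype E]
  {ι : E →+* F} {τ σ₀ : F ≃+* F} {σ₀' : E ≃+* E}

theorem dvd_succ_of_pow (p : ℕ) [Fact p.Prime] {q q₀ : ℕ} (hq : q = q₀ ^ p) (h : p ∣ q + 1) :
    p ∣ q₀ + 1 := by
  rw [← ZMod.natCast_eq_zero_iff] at h ⊢
  rw [hq] at h
  push_cast at h ⊢
  rw [ZMod.pow_card] at h
  exact h

set_option maxHeartbeats 1600000 in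
theorem dvd_card_LU (D : FD ι τ σ₀ σ₀') (hσ₀q : ∀ a : F, σ₀ a = a ^ q)
    (hσ₀'q : ∀ a : E, σ₀' a = a ^ q₀) (hF : Fintype.card F = q ^ 2)
    (hE : Fintype.card E = q₀ ^ 2) (hn : 3 ≤ n) (p : ℕ) [Fact p.Prime] (hq : q = q₀ ^ p)
    (hdvd : p ∣ Nat.card ↥(MonoidHom.eqLocus
      (fa τ : MulAut (Cfsg.PSU n F q)).toMonoidHom (MonoidHom.id _))) :
    p ∣ Nat.card ↥(phiU (n := n) D hσ₀q hσ₀'q).range := by
  classical
  haveI := finite_PSU (n := n) (F := F) (q := q)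
  haveI := finite_SU (n := n) (F := F) (q := q)
  have hpp : p.Prime := Fact.out
  obtain ⟨c, hc⟩ := exists_prime_orderOf_dvd_card' p hdvd
  have hcfix : (fa τ : MulAut (Cfsg.PSU n F q)) (c : Cfsg.PSU n F q) = c := c.2
  rw [← Subgroup.orderOf_coe] at hc
  obtain ⟨s, hs⟩ := QuotientGroup.mk_surjective (c : Cfsg.PSU n F q)
  have hN0 : orderOf s ≠ 0 := (orderOf_pos s).ne'
  obtain ⟨a, m, hm, hN⟩ := Nat.exists_eq_pow_mul_and_not_dvd hN0 p hpp.ne_one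
  obtain ⟨s₁, hs₁⟩ : ∃ s₁, s₁ = s ^ m := ⟨_, rfl⟩
  obtain ⟨c₁, hc₁⟩ : ∃ c₁, c₁ = (c : Cfsg.PSU n F q) ^ m := ⟨_, rfl⟩
  have hmk : (QuotientGroup.mk s₁ : Cfsg.PSU n F q) = c₁ := by
    rw [hs₁, hc₁, ← hs]
    rfl
  have hc₁fix : (fa τ : MulAut (Cfsg.PSU n F q)) c₁ = c₁ := by
    rw [hc₁, map_pow, hcfix]
  have hc₁ord : orderOf c₁ = p := by
    apply orderOf_eq_prime
    · rw [hc₁, ← pow_mul, mul_comm, pow_mul, ← hc, pow_orderOf_eq_one, one_pow]
    · intro h1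
      rw [hc₁] at h1
      have := orderOf_dvd_of_pow_eq_one h1
      rw [hc] at this
      exact hm this
  have hs₁pow : s₁ ^ (p ^ a) = 1 := by
    rw [hs₁, ← pow_mul, mul_comm, ← hN, pow_orderOf_eq_one]
  have hz := lift_mem_center τ s₁ (by rw [hmk]; exact hc₁fix)
  obtain ⟨z, hzd⟩ : ∃ z, z = s₁⁻¹ * thetaF τ s₁ := ⟨_, rfl⟩
  rw [← hzd] at hz
  have hθs : thetaF τ s₁ = s₁ * z := by rw [hzd]; group
  have hzpow : z ^ (p ^ a) = 1 := by
    have h1 : (thetaF τ s₁) ^ (p ^ a) = 1 := by rw [← map_pow, hs₁pow, map_one]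
    have hcomm : Commute s₁ z := Subgroup.mem_center_iff.1 hz s₁
    rw [hθs, hcomm.mul_pow, hs₁pow, one_mul] at h1
    exact h1
  by_cases hz1 : z = 1
  · rw [hz1, mul_one] at hθs
    obtain ⟨u₀, hu₀⟩ := exists_emS_of_thetaF D hσ₀q hσ₀'q s₁ hθs
    have hmem : c₁ ∈ (phiU (n := n) D hσ₀q hσ₀'q).range := by
      refine ⟨u₀, ?_⟩
      rw [phiU_apply, hu₀, hmk]
    have h3 : orderOf (⟨c₁, hmem⟩ : ↥(phiU (n := n) D hσ₀q hσ₀'q).range)
        ∣ Nat.card ↥(phiU (n := n) D hσ₀q hσ₀'q).range := orderOf_dvd_natCard _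
    rw [← Subgroup.orderOf_coe] at h3
    rw [← hc₁ord]
    exact h3
  · obtain ⟨l, hl, hlq, -⟩ := center_scalar hF hn z hz
    have hl1 : l ≠ 1 := by
      intro h1
      apply hz1
      apply Subtype.ext
      apply Subtype.ext
      rw [hl, h1, one_smul]
      rfl
    have hlpow : l ^ (p ^ a) = 1 := by
      have h4 : ((z : SpecialLinearGroup (Fin n) F) : Matrix (Fin n) (Fin n) F) ^ (p ^ a) = 1 := by
        have := congrArg (fun s : ↥(Cfsg.SU n F q) =>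
          ((s : SpecialLinearGroup (Fin n) F) : Matrix (Fin n) (Fin n) F)) hzpow
        simpa using this
      rw [hl, smul_pow, one_pow] at h4
      have h6 := congrFun (congrFun h4 ⟨0, by omega⟩) ⟨0, by omega⟩
      rw [Matrix.smul_apply, Matrix.one_apply_eq, smul_eq_mul, mul_one] at h6
      exact h6
    have h5 : orderOf l ∣ p ^ a := orderOf_dvd_of_pow_eq_one hlpow
    obtain ⟨b, -, hb⟩ := (Nat.dvd_prime_pow hpp).1 h5
    have hb0 : b ≠ 0 := by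
      intro h0
      rw [h0, pow_zero, orderOf_eq_one_iff] at hb
      exact hl1 hb
    have hpl : p ∣ orderOf l := by
      rw [hb]
      exact dvd_pow_self p hb0
    have hpq : p ∣ q + 1 := hpl.trans (orderOf_dvd_of_pow_eq_one hlq)
    exact dvd_card_LU_diag D hσ₀q hσ₀'q hF hE hn p (dvd_succ_of_pow p hq hpq)

end FieldU4

end Cfsg.Agent.Lib.Helper5.UBal
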