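import Mathlib
import Cfsg.Agent.Lib.Helper5.UBal.FieldU4
import Cfsg.Agent.Lib.Helper2.UT18

set_option autoImplicit false

/-! Unitary transvections over the small field as elements of the special unitary group. -/

namespace Cfsg.Agent.Lib.Helper5.UBal

open Matrix Cfsg.Agent.Lib.Helper5.PSLCoset Cfsg.Agent.Lib.Helper5.PSUAut
  Cfsg.Agent.Lib.Helper5.UAut Cfsg.Agent.Lib.Helper5.PSUField Cfsg.Agent.Lib.Helper5.SLnAut
  Cfsg.Agent.Lib.Helper5.LBal Cfsg.Agent.Lib.Helper2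

section FieldU5
variable {n : ℕ} {E : Type*} [Field E] [Fintype E] {q₀ : ℕ}

/-- a unitary transvection as an element of the special unitary group -/
def tvSU (hE : Fintype.card E = q₀ ^ 2) (w : Fin n → E) (hw : Cfsg.hermForm n E q₀ w w = 0)
    (a : E) (ha : a ^ q₀ = -a) : ↥(Cfsg.SU n E q₀) :=
  UnitaryComm.mkSU (Cfsg.unitaryTransvection n q₀ w a)
    (by
      unfold Cfsg.unitaryTransvection
      rw [HermFrames.det_rank_one, hw, mul_zero, add_zero])
    (by
      intro x y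
      rw [Herm.herm_transvection hE w hw a x y, ha]
      ring)

theorem tvSU_coe (hE : Fintype.card E = q₀ ^ 2) (w : Fin n → E)
    (hw : Cfsg.hermForm n E q₀ w w = 0) (a : E) (ha : a ^ q₀ = -a) :
    (((tvSU hE w hw a ha : ↥(Cfsg.SU n E q₀)) : SpecialLinearGroup (Fin n) E) :
      Matrix (Fin n) (Fin n) E) = Cfsg.unitaryTransvection n q₀ w a := rfl

theorem unitaryTransvection_pow (w : Fin n → E) (hw : Cfsg.hermForm n E q₀ w w = 0) (a : E)
    (k : ℕ) : (Cfsg.unitaryTransvection n q₀ w a) ^ k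
      = 1 + ((k : E) * a) • Matrix.vecMulVec w (fun j => (w j) ^ q₀) := by
  obtain ⟨N, hNd⟩ : ∃ N : Matrix (Fin n) (Fin n) E,
      N = Matrix.vecMulVec w (fun j => (w j) ^ q₀) := ⟨_, rfl⟩
  have hN : N * N = 0 := by
    rw [hNd, Matrix.vecMulVec_mul_vecMulVec]
    have : (fun j => (w j) ^ q₀) ⬝ᵥ w = 0 := by
      rw [dotProduct_comm]
      exact hw
    rw [this]
    ext i j
    simp [Matrix.vecMulVec_apply]
  have hU : Cfsg.unitaryTransvection n q₀ w a = 1 + a • N := by rw [hNd]; rfl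
  rw [hU, ← hNd]
  induction k with
  | zero => simp
  | succ k ih =>
    rw [pow_succ, ih, mul_add, mul_one, add_mul, one_mul, Matrix.smul_mul, Matrix.mul_smul, hN,
      smul_zero, smul_zero, add_zero, add_assoc, ← add_smul]
    congr 2
    push_cast
    ring

theorem tvSU_pow_char (hE : Fintype.card E = q₀ ^ 2) (r : ℕ) [CharP E r] (w : Fin n → E)
    (hw : Cfsg.hermForm n E q₀ w w = 0) (a : E) (ha : a ^ q₀ = -a) :
    (tvSU hE w hw a ha) ^ r = 1 := by
  apply Subtype.ext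
  apply Subtype.ext
  rw [Subgroup.coe_pow, Matrix.SpecialLinearGroup.coe_pow, tvSU_coe,
    unitaryTransvection_pow w hw, CharP.cast_eq_zero, zero_mul, zero_smul, add_zero]
  rfl

end FieldU5

section FieldU5b
variable {n : ℕ} {F : Type*} [Field F] [Fintype F] {q q₀ : ℕ} {E : Type*} [Field E] [Fintype E]
  {ι : E →+* F} {τ σ₀ : F ≃+* F} {σ₀' : E ≃+* E}

/-- the form over the small field -/
theorem herm_iota (D : FD ι τ σ₀ σ₀') (hσ₀q : ∀ a : F, σ₀ a = a ^ q)
    (hσ₀'q : ∀ a : E, σ₀' a = a ^ q₀) (x y : Fin n → E) :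
    Cfsg.hermForm n F q (fun i => ι (x i)) (fun i => ι (y i))
      = ι (Cfsg.hermForm n E q₀ x y) := by
  unfold Cfsg.hermForm
  rw [map_sum]
  apply Finset.sum_congr rfl
  intro i _
  rw [map_mul, ← hσ₀q, ← D.comp, hσ₀'q]

/-- the action of an embedded transvection -/
theorem emS_tvSU_mulVec (D : FD ι τ σ₀ σ₀') (hσ₀q : ∀ a : F, σ₀ a = a ^ q)
    (hσ₀'q : ∀ a : E, σ₀' a = a ^ q₀) (hE : Fintype.card E = q₀ ^ 2) (w : Fin n → E)
    (hw : Cfsg.hermForm n E q₀ w w = 0) (a : E) (ha : a ^ q₀ = -a) (x : Fin n → F) :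
    (((emS D hσ₀q hσ₀'q (tvSU hE w hw a ha) : ↥(Cfsg.SU n F q)) : SpecialLinearGroup (Fin n) F) :
      Matrix (Fin n) (Fin n) F) *ᵥ x
      = x + (ι a * Cfsg.hermForm n F q x (fun i => ι (w i))) • (fun i => ι (w i)) := by
  rw [emS_coe, tvSU_coe]
  have h1 : (Cfsg.unitaryTransvection n q₀ w a).map ι
      = Cfsg.unitaryTransvection n q (fun i => ι (w i)) (ι a) := by
    unfold Cfsg.unitaryTransvection
    ext i j
    simp only [Matrix.map_apply, Matrix.add_apply, Matrix.smul_apply, Matrix.vecMulVec_apply,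
      smul_eq_mul, map_add, map_mul, Matrix.one_apply]
    rw [← hσ₀q, ← D.comp, hσ₀'q]
    congr 1
    split_ifs <;> simp
  rw [h1, Herm.unitaryTransvection_mulVec]

end FieldU5b

end Cfsg.Agent.Lib.Helper5.UBal
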