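import Mathlib
import Cfsg.Agent.Lib.Helper2.UT15

set_option autoImplicit false

/-! Relative rigidity: a semilinear bijection of a Hermitian space over a field `F` which commutes
with the unitary transvections defined over a subfield `E` is, on the `E`-rational vectors, a
scalar multiplication, and its field automorphism fixes `E`. -/

namespace Cfsg.Agent.Lib.Helper5.UBal

open Module Cfsg.Agent.Lib.Helper5.PSLCoset Cfsg.Agent.Lib.Helper2 Cfsg.Agent.Lib.Helper2.UT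

section RelU
variable {E : Type*} [Field E] [Finite E] {F : Type*} [Field F] {σ' : E ≃+* E} {σ : F ≃+* F}
variable {W : Type*} [AddCommGroup W] [Module E W] [FiniteDimensional E W]
variable {V : Type*} [AddCommGroup V] [Module F V]
variable {H₀ : W → W → E} {H : V → V → F}

set_option maxHeartbeats 3200000 in
theorem rel_u (hσ' : orderOf σ' = 2) (h₀ : IsHerm σ' H₀) (h : IsHerm σ H)
    (hnd : ∀ v, (∀ w, H₀ v w = 0) → v = 0) (hdim : 3 ≤ finrank E W)
    (ι : E →+* F) (j : W → V) (hjadd : ∀ x y, j (x + y) = j x + j y)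
    (hjsmul : ∀ (a : E) (x : W), j (a • x) = ι a • j x)
    (hform : ∀ x y, H (j x) (j y) = ι (H₀ x y))
    (τ : F ≃+* F) (g : V → V) (hadd : ∀ x y, g (x + y) = g x + g y)
    (hsmul : ∀ (c : F) (x : V), g (c • x) = τ c • g x) (hinj : ∀ x, g x = 0 → x = 0)
    (hcomm : ∀ w : W, H₀ w w = 0 → ∀ a : E, σ' a = -a → ∀ x : V,
      g (x + (ι a * H x (j w)) • j w) = g x + (ι a * H (g x) (j w)) • j w) :
    (∀ a : E, τ (ι a) = ι a) ∧ ∃ κ : F, ∀ x : W, g (j x) = κ • j x := by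
  have hσ2 := WittHerm.sigma_sigma hσ'
  have hj0 : ∀ w : W, j w = 0 → w = 0 := by
    intro w hw
    apply hnd
    intro y
    have := hform w y
    rw [hw, h.zero_left] at this
    exact (map_eq_zero_iff ι ι.injective).1 this.symm
  have hjne : ∀ w : W, w ≠ 0 → j w ≠ 0 := fun w hw h0 => hw (hj0 w h0)
  obtain ⟨a₀, ha₀0, ha₀⟩ := exists_skew hσ'
  have hιa₀ : ι a₀ ≠ 0 := (map_ne_zero_iff ι ι.injective).2 ha₀0
  have hτιa₀ : τ (ι a₀) ≠ 0 := (map_ne_zero_iff τ τ.injective).2 hιa₀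
  -- (S1)
  have S1 : ∀ w : W, H₀ w w = 0 → ∀ a : E, σ' a = -a → ∀ x : V,
      τ (ι a * H x (j w)) • g (j w) = (ι a * H (g x) (j w)) • j w := by
    intro w hw a ha x
    have := hcomm w hw a ha x
    rw [hadd, hsmul] at this
    exact add_left_cancel this
  -- fixed points
  have hfix : ∀ w : W, w ≠ 0 → H₀ w w = 0 → ∃ c : F, g (j w) = c • j w := by
    intro w hw0 hw
    obtain ⟨y, hy⟩ : ∃ y, H₀ y w ≠ 0 := by
      by_contra hcon
      push Not at hcon
      apply hw0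
      apply hnd
      intro y
      rw [h₀.symm y w, hcon, map_zero]
    have h1 := S1 w hw a₀ ha₀ (j y)
    rw [hform] at h1
    have h2 : τ (ι a₀ * ι (H₀ y w)) ≠ 0 :=
      (map_ne_zero_iff τ τ.injective).2
        (mul_ne_zero hιa₀ ((map_ne_zero_iff ι ι.injective).2 hy))
    refine ⟨(τ (ι a₀ * ι (H₀ y w)))⁻¹ * (ι a₀ * H (g (j y)) (j w)), ?_⟩
    rw [mul_smul, ← h1, smul_smul, inv_mul_cancel₀ h2, one_smul]
  -- (S2)
  have S2 : ∀ w : W, w ≠ 0 → H₀ w w = 0 → ∀ c : F, g (j w) = c • j w → ∀ a : E, σ' a = -a →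
      ∀ x : V, τ (ι a) * τ (H x (j w)) * c = ι a * H (g x) (j w) := by
    intro w hw0 hw c hc a ha x
    have h1 := S1 w hw a ha x
    rw [hc, smul_smul, map_mul] at h1
    have h2 := sub_eq_zero.2 h1
    rw [← sub_smul] at h2
    rcases smul_eq_zero.1 h2 with h3 | h3
    · exact sub_eq_zero.1 h3
    · exact absurd h3 (hjne w hw0)
  have hcne : ∀ w : W, w ≠ 0 → ∀ c : F, g (j w) = c • j w → c ≠ 0 := by
    intro w hw0 c hc h0
    rw [h0, zero_smul] at hc
    exact hjne w hw0 (hinj _ hc)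
  -- pairs
  have P1 : ∀ u w : W, H₀ u u = 0 → H₀ w w = 0 → H₀ u w = 1 → ∀ cu cw : F,
      g (j u) = cu • j u → g (j w) = cw • j w → τ (ι a₀) * cw = ι a₀ * cu := by
    intro u w hu hw huw cu cw hcu hcw
    have hw0 : w ≠ 0 := by
      intro h0
      rw [h0, h₀.zero_right] at huw
      exact zero_ne_one huw
    have := S2 w hw0 hw cw hcw a₀ ha₀ (j u)
    rw [hform, huw, map_one, map_one, mul_one, hcu, h.smul_left, hform, huw, map_one,
      mul_one] at this
    exact this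
  -- the triple
  obtain ⟨u, w, hp⟩ := exists_hypPair hσ' h₀ hnd (by omega)
  have huw := hp.uv
  have hwu := hp.vu h₀
  have hu := hp.uu
  have hw := hp.vv
  have hu0 : u ≠ 0 := by
    intro h0
    rw [h0, h₀.zero_left] at huw
    exact zero_ne_one huw
  have hw0 : w ≠ 0 := by
    intro h0
    rw [h0, h₀.zero_right] at huw
    exact zero_ne_one huw
  obtain ⟨w₀, hw₀w₀, hw₀u, hw₀w⟩ := exists_aniso_ortho_pair hσ' h₀ hnd hdim hu hw
    (by rw [huw]; exact one_ne_zero)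
  have huw₀ : H₀ u w₀ = 0 := by rw [h₀.symm w₀ u, hw₀u, map_zero]
  have hww₀ : H₀ w w₀ = 0 := by rw [h₀.symm w₀ w, hw₀w, map_zero]
  obtain ⟨c₀, hc₀⟩ : ∃ c₀, c₀ = H₀ w₀ w₀ := ⟨_, rfl⟩
  have hc₀fix : σ' c₀ = c₀ := by rw [hc₀]; exact WittHerm.self_fixed h₀ w₀
  have hc₀0 : c₀ ≠ 0 := by rw [hc₀]; exact hw₀w₀
  obtain ⟨cu, hcu⟩ := hfix u hu0 hu
  obtain ⟨cw, hcw⟩ := hfix w hw0 hw
  have hcu0 := hcne u hu0 cu hcu
  have hpair := P1 u w hu hw huw cu cw hcu hcw
  -- the vectors `z_b`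
  have hz : ∀ b : E, ∃ e : E, H₀ (u + e • w + b • w₀) (u + e • w + b • w₀) = 0 ∧
      H₀ (u + e • w + b • w₀) w = 1 := by
    intro b
    obtain ⟨e, he⟩ := WittHerm.exists_trace hσ' (-(c₀ * b * σ' b))
      (by rw [map_neg, map_mul, map_mul, hσ2, hc₀fix]; ring)
    refine ⟨e, ?_, ?_⟩
    · simp only [h₀.add_left, h₀.add_right, h₀.smul_left, h₀.smul_right, hu, hw, huw, hwu, huw₀,
        hww₀, hw₀u, hw₀w, ← hc₀]
      linear_combination he
    · simp only [h₀.add_left, h₀.smul_left, hw, huw, hw₀w]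
      ring
  have hτfix : ∀ b : E, τ (ι b) = ι b := by
    -- the relation `R_b`
    have hR : ∀ b : E, τ (ι b) * H (g (j w₀)) (j w₀) = cu * ι b * ι c₀ := by
      intro b
      obtain ⟨e, hzz, hzw⟩ := hz b
      have hz0 : u + e • w + b • w₀ ≠ 0 := by
        intro h0
        rw [h0, h₀.zero_left] at hzw
        exact zero_ne_one hzw
      obtain ⟨cz, hcz⟩ := hfix _ hz0 hzz
      have h1 := P1 _ w hzz hw hzw cz cw hcz hcw
      have h2 : cz = cu := by
        have h3 : ι a₀ * cz = ι a₀ * cu := by rw [← h1, hpair]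
        exact mul_left_cancel₀ hιa₀ h3
      rw [h2] at hcz
      rw [hjadd, hjadd, hjsmul, hjsmul, hadd, hadd, hsmul, hsmul, hcu, hcw] at hcz
      have h4 : τ (ι b) • g (j w₀) = (cu * ι e - τ (ι e) * cw) • j w + (cu * ι b) • j w₀ := by
        have h5 : τ (ι b) • g (j w₀) = (cu • j u + τ (ι e) • cw • j w + τ (ι b) • g (j w₀))
            - cu • j u - (τ (ι e) * cw) • j w := by
          rw [mul_smul]
          abel
        rw [h5, hcz]
        module
      have h6 := congrArg (fun x => H x (j w₀)) h4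
      simp only [h.add_left, h.smul_left, hform, hww₀, ← hc₀, map_zero, mul_zero, zero_add] at h6
      linear_combination h6
    intro b
    have h1 := hR 1
    rw [map_one, map_one, one_mul, mul_one] at h1
    have h2 := hR b
    rw [h1] at h2
    have hιc₀ : ι c₀ ≠ 0 := (map_ne_zero_iff ι ι.injective).2 hc₀0
    have h3 : (τ (ι b) - ι b) * (cu * ι c₀) = 0 := by linear_combination h2
    rcases mul_eq_zero.1 h3 with h4 | h4
    · exact sub_eq_zero.1 h4
    · exact absurd h4 (mul_ne_zero hcu0 hιc₀)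
  refine ⟨hτfix, cu, ?_⟩
  -- all isotropic vectors have the same multiplier
  have S3 : ∀ w₁ w₂ : W, w₁ ≠ 0 → w₂ ≠ 0 → H₀ w₁ w₁ = 0 → H₀ w₂ w₂ = 0 → H₀ w₁ w₂ ≠ 0 →
      ∀ c₁ c₂ : F, g (j w₁) = c₁ • j w₁ → g (j w₂) = c₂ • j w₂ → c₁ = c₂ := by
    intro w₁ w₂ hw₁0 hw₂0 hw₁ hw₂ h12 c₁ c₂ hc₁ hc₂
    have h1 := S2 w₂ hw₂0 hw₂ c₂ hc₂ a₀ ha₀ (j w₁)
    rw [hform, hτfix, hτfix, hc₁, h.smul_left, hform] at h1
    have hne : ι (H₀ w₁ w₂) ≠ 0 := (map_ne_zero_iff ι ι.injective).2 h12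
    have h3 : (ι a₀ * ι (H₀ w₁ w₂)) * (c₂ - c₁) = 0 := by linear_combination h1
    rcases mul_eq_zero.1 h3 with h4 | h4
    · exact absurd h4 (mul_ne_zero hιa₀ hne)
    · exact (sub_eq_zero.1 h4).symm
  have hiso : ∀ x : W, H₀ x x = 0 → g (j x) = cu • j x := by
    intro x hxx
    by_cases hx0 : x = 0
    · have hj0' : j (0 : W) = 0 := by
        have := hjsmul 0 (0 : W)
        rwa [zero_smul, map_zero, zero_smul] at this
      have hg0 : g 0 = 0 := by
        have := hsmul 0 (0 : V)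
        rwa [zero_smul, map_zero, zero_smul] at this
      rw [hx0, hj0', hg0, smul_zero]
    obtain ⟨cx, hcx⟩ := hfix x hx0 hxx
    by_cases hux : H₀ u x = 0
    · obtain ⟨c, hcc, huc, hcx'⟩ := exists_bridge hσ' h₀ hnd hu hu0 hx0 hux
      have hc0 : c ≠ 0 := by
        intro h0
        rw [h0, h₀.zero_right] at huc
        exact huc rfl
      obtain ⟨cc, hcc'⟩ := hfix c hc0 hcc
      have e1 := S3 u c hu0 hc0 hu hcc huc cu cc hcu hcc'
      have e2 := S3 c x hc0 hx0 hcc hxx hcx' cc cx hcc' hcx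
      rw [hcx, ← e2, ← e1]
    · have e1 := S3 u x hu0 hx0 hu hxx hux cu cx hcu hcx
      rw [hcx, ← e1]
  intro x
  obtain ⟨x₀, hx₀⟩ : ∃ x₀ : W, x₀ = x - H₀ x w • u - H₀ x u • w := ⟨_, rfl⟩
  have hx₀u : H₀ x₀ u = 0 := by
    rw [hx₀, h₀.sub_left, h₀.sub_left, h₀.smul_left, h₀.smul_left, hu, hwu]
    ring
  have hx₀w : H₀ x₀ w = 0 := by
    rw [hx₀, h₀.sub_left, h₀.sub_left, h₀.smul_left, h₀.smul_left, hw, huw]
    ring
  have hux₀ : H₀ u x₀ = 0 := by rw [h₀.symm x₀ u, hx₀u, map_zero]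
  have hwx₀ : H₀ w x₀ = 0 := by rw [h₀.symm x₀ w, hx₀w, map_zero]
  obtain ⟨e, he⟩ := WittHerm.exists_trace hσ' (-(H₀ x₀ x₀))
    (by rw [map_neg, WittHerm.self_fixed h₀])
  have hy : H₀ (x₀ + u + e • w) (x₀ + u + e • w) = 0 := by
    simp only [h₀.add_left, h₀.add_right, h₀.smul_left, h₀.smul_right, hx₀u, hx₀w, hux₀, hwx₀, hu,
      hw, huw, hwu]
    linear_combination he
  obtain ⟨y, hyd⟩ : ∃ y : W, y = x₀ + u + e • w := ⟨_, rfl⟩
  rw [← hyd] at hy
  have h1 := hiso y hy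
  have h2 := hiso w hw
  have hx : x = y + (H₀ x w - 1) • u + (H₀ x u - e) • w := by
    rw [hyd, hx₀]
    module
  rw [hx]
  simp only [hjadd, hjsmul, hadd, hsmul, hτfix, h1, hcu, h2]
  module

end RelU

end Cfsg.Agent.Lib.Helper5.UBal
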