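import Mathlib
import Cfsg.Agent.Lib.Helper5.UBal.FieldU5
import Cfsg.Agent.Lib.Helper5.UBal.RelU
import Cfsg.Agent.Lib.Helper5.LBal.SemiComm

set_option autoImplicit false

/-! An automorphism of `PSU_n(q)` fixing the images of the unitary transvections defined over the
small field is induced by a field automorphism fixing the small field. -/

namespace Cfsg.Agent.Lib.Helper5.UBal

open Matrix Module Cfsg.Agent.Lib.Helper5.PSLCoset Cfsg.Agent.Lib.Helper5.PSUAut
  Cfsg.Agent.Lib.Helper5.UAut Cfsg.Agent.Lib.Helper5.PSUField Cfsg.Agent.Lib.Helper5.SLnAut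
  Cfsg.Agent.Lib.Helper5.LBal Cfsg.Agent.Lib.Helper2

section FieldU6
variable {n : ℕ} {F : Type*} [Field F] [Fintype F] {q q₀ : ℕ} {E : Type*} [Field E] [Fintype E]
  {ι : E →+* F} {τ σ₀ : F ≃+* F} {σ₀' : E ≃+* E}

/-- if `cjC h * fa τ'` fixes the image of a matrix of order dividing the characteristic then the
semilinear map of `h, τ'` commutes with the matrix -/
theorem vsemi_comm_of_fix_U (hF : Fintype.card F = q ^ 2) (hn : 3 ≤ n) (r : ℕ) [Fact r.Prime]
    [CharP F r] (h : ↥(CU n F q)) (τ' : F ≃+* F) (l : ↥(Cfsg.SU n F q)) (hl : l ^ r = 1)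
    (hfix : (cjC h * fa τ' : MulAut (Cfsg.PSU n F q)) (QuotientGroup.mk l) = QuotientGroup.mk l)
    (v : Fin n → F) :
    vsemi (h : GL (Fin n) F) τ' (((l : SpecialLinearGroup (Fin n) F) :
      Matrix (Fin n) (Fin n) F) *ᵥ v)
      = ((l : SpecialLinearGroup (Fin n) F) : Matrix (Fin n) (Fin n) F)
        *ᵥ vsemi (h : GL (Fin n) F) τ' v := by
  rw [MulAut.mul_apply, fa_mk', cjC_mk] at hfix
  obtain ⟨a, had⟩ : ∃ a : ↥(Cfsg.SU n F q), a =
      ⟨glConj (h : GL (Fin n) F) (thetaF τ' l).1,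
        (glConj_mem_stab _ h.2 (thetaF τ' l).1).2 (thetaF τ' l).2⟩ := ⟨_, rfl⟩
  rw [← had] at hfix
  have hacoe : ((a : SpecialLinearGroup (Fin n) F) : Matrix (Fin n) (Fin n) F)
      = ((h : GL (Fin n) F) : Matrix (Fin n) (Fin n) F)
        * ((l : SpecialLinearGroup (Fin n) F) : Matrix (Fin n) (Fin n) F).map τ'
        * (((h : GL (Fin n) F)⁻¹ : GL (Fin n) F) : Matrix (Fin n) (Fin n) F) := by
    rw [had]
    show ((glConj (h : GL (Fin n) F) (thetaF τ' l).1 : SpecialLinearGroup (Fin n) F) :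
      Matrix (Fin n) (Fin n) F) = _
    rw [glConj_coe, thetaF_coe]
  have har : a ^ r = 1 := by
    apply Subtype.ext
    rw [Subgroup.coe_pow, Subgroup.coe_one, had]
    show (glConj (h : GL (Fin n) F) (thetaF τ' l).1) ^ r = 1
    rw [← map_pow, ← Subgroup.coe_pow, ← map_pow, hl, map_one, Subgroup.coe_one, map_one]
  have h1 : a = l := eq_of_mk_eq_of_pow_char hF hn r a l hfix har hl
  rw [h1] at hacoe
  have h3 : ((h : GL (Fin n) F) : Matrix (Fin n) (Fin n) F)
      * ((l : SpecialLinearGroup (Fin n) F) : Matrix (Fin n) (Fin n) F).map τ'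
      = ((l : SpecialLinearGroup (Fin n) F) : Matrix (Fin n) (Fin n) F)
        * ((h : GL (Fin n) F) : Matrix (Fin n) (Fin n) F) := by
    have h4 := congrArg (fun M => M * ((h : GL (Fin n) F) : Matrix (Fin n) (Fin n) F)) hacoe
    beta_reduce at h4
    rw [Matrix.mul_assoc _ _ ((h : GL (Fin n) F) : Matrix (Fin n) (Fin n) F), ← Units.val_mul,
      inv_mul_cancel, Units.val_one, Matrix.mul_one] at h4
    exact h4.symm
  unfold vsemi
  have h5 : (fun i => τ' ((((l : SpecialLinearGroup (Fin n) F) : Matrix (Fin n) (Fin n) F)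
      *ᵥ v) i))
      = (((l : SpecialLinearGroup (Fin n) F) : Matrix (Fin n) (Fin n) F).map τ')
        *ᵥ (fun i => τ' (v i)) := by
    ext i
    exact RingHom.map_mulVec (τ' : F →+* F) _ v i
  rw [h5, Matrix.mulVec_mulVec, h3, Matrix.mulVec_mulVec]

set_option maxHeartbeats 1600000 in
/-- rigidity: an automorphism fixing the images of the transvections over the small field -/
theorem semi_rigid_U (D : FD ι τ σ₀ σ₀') (hσ₀q : ∀ a : F, σ₀ a = a ^ q)
    (hσ₀'q : ∀ a : E, σ₀' a = a ^ q₀) (hF : Fintype.card F = q ^ 2)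
    (hE : Fintype.card E = q₀ ^ 2) (hn : 3 ≤ n) (r : ℕ) [Fact r.Prime] [CharP F r]
    (h : ↥(CU n F q)) (τ' : F ≃+* F)
    (hfix : ∀ (w : Fin n → E) (hw : Cfsg.hermForm n E q₀ w w = 0) (a : E) (ha : a ^ q₀ = -a),
      (cjC h * fa τ' : MulAut (Cfsg.PSU n F q)) (phiU D hσ₀q hσ₀'q (tvSU hE w hw a ha))
        = phiU D hσ₀q hσ₀'q (tvSU hE w hw a ha)) :
    (∀ a : E, τ' (ι a) = ι a) ∧ ∃ κ : F, κ ≠ 0 ∧
      ((h : GL (Fin n) F) : Matrix (Fin n) (Fin n) F) = κ • (1 : Matrix (Fin n) (Fin n) F) := by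
  classical
  haveI : CharP E r := (RingHom.charP_iff ι ι.injective r).2 inferInstance
  have hq₀ : 2 ≤ q₀ := Cfsg.Agent.Lib.Helper1.HermCount.two_le_q hE
  have h₀ : IsHerm σ₀' (Cfsg.hermForm n E q₀) :=
    GUIsom.isHerm_hermForm n q₀ σ₀' (WittHerm.sigma_sigma D.ord) hσ₀'q
  have hH : IsHerm σ₀ (Cfsg.hermForm n F q) := GUIsom.isHerm_hermForm n q σ₀ D.inv hσ₀q
  have hnd : ∀ v : Fin n → E, (∀ w, Cfsg.hermForm n E q₀ v w = 0) → v = 0 :=
    fun v hv => GUIsom.hermForm_nondeg n q₀ (by omega) v hv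
  have hdim : 3 ≤ finrank E (Fin n → E) := by
    rw [Module.finrank_fin_fun]
    exact hn
  obtain ⟨hτ, κ, hκ⟩ := rel_u D.ord h₀ hH hnd hdim ι (fun w i => ι (w i))
    (by intro x y; funext i; simp)
    (by intro a x; funext i; simp)
    (herm_iota D hσ₀q hσ₀'q) τ' (vsemi (h : GL (Fin n) F) τ')
    (vsemi_add _ τ') (vsemi_smul _ τ') (vsemi_inj _ τ')
    (by
      intro w hw a ha x
      have ha' : a ^ q₀ = -a := by rw [← hσ₀'q, ha]
      have hpow : (emS D hσ₀q hσ₀'q (tvSU hE w hw a ha')) ^ r = 1 := by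
        rw [← map_pow, tvSU_pow_char hE r w hw a ha', map_one]
      have h1 := vsemi_comm_of_fix_U hF hn r h τ' (emS D hσ₀q hσ₀'q (tvSU hE w hw a ha'))
        hpow (hfix w hw a ha') x
      rw [emS_tvSU_mulVec, emS_tvSU_mulVec] at h1
      exact h1)
  refine ⟨hτ, κ, ?_, ?_⟩
  swap
  · ext i k
    have h1 := congrFun (hκ (Pi.single k 1)) i
    unfold vsemi at h1
    have h2 : (fun i' => τ' (ι ((Pi.single k (1 : E) : Fin n → E) i')))
        = (Pi.single k (1 : F) : Fin n → F) := by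
      funext i'
      by_cases hik : i' = k
      · subst hik
        simp
      · simp [Pi.single_eq_of_ne hik]
    have h3 : (fun i' => ι ((Pi.single k (1 : E) : Fin n → E) i'))
        = (Pi.single k (1 : F) : Fin n → F) := by
      funext i'
      by_cases hik : i' = k
      · subst hik
        simp
      · simp [Pi.single_eq_of_ne hik]
    rw [h2, h3, Matrix.mulVec_single_one, Matrix.col_apply] at h1
    rw [h1, Matrix.smul_apply, Matrix.one_apply, Pi.smul_apply, Pi.single_apply, smul_eq_mul]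
  · intro h0
    have h1 := hκ (Pi.single ⟨0, by omega⟩ 1)
    rw [h0, zero_smul] at h1
    have h2 := vsemi_inj _ _ _ h1
    have h3 := congrFun h2 ⟨0, by omega⟩
    simp at h3

end FieldU6

end Cfsg.Agent.Lib.Helper5.UBal
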