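import Mathlib
import Cfsg.Agent.Lib.Helper5.UBal.FieldU6
import Cfsg.Agent.Lib.Helper5.PSpBal5
import Cfsg.Agent.Lib.Helper5.UAut15
import Cfsg.Agent.Lib.Helper5.LBal.Core

set_option autoImplicit false

/-! The standard field automorphism of order `p` of `PSU_n(q)`: subgroups of fixed points of
order prime to `p` normalized by the image of the small group, and automorphisms fixing it. -/

namespace Cfsg.Agent.Lib.Helper5.UBal

open Matrix Module Cfsg.Agent.Lib.Helper5.PSLCoset Cfsg.Agent.Lib.Helper5.PSUAut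
  Cfsg.Agent.Lib.Helper5.UAut Cfsg.Agent.Lib.Helper5.PSUField Cfsg.Agent.Lib.Helper5.SLnAut
  Cfsg.Agent.Lib.Helper5.LBal Cfsg.Agent.Lib.Helper2 Cfsg.Agent.Lib.Helper5.PSpBal

section FieldU7
variable {n : ℕ} {F : Type*} [Field F] [Fintype F] {q q₀ : ℕ} {E : Type*} [Field E] [Fintype E]
  {ι : E →+* F} {τ σ₀ : F ≃+* F} {σ₀' : E ≃+* E}

theorem toGL_mem_CU (s : ↥(Cfsg.SU n F q)) :
    Matrix.SpecialLinearGroup.toGL (s : SpecialLinearGroup (Fin n) F) ∈ CU n F q :=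
  GU_le_CU (fun u v => s.2 u v)

/-- conjugation by an element of the special unitary group -/
theorem cjC_toGL (s : ↥(Cfsg.SU n F q)) :
    cjC ⟨Matrix.SpecialLinearGroup.toGL (s : SpecialLinearGroup (Fin n) F), toGL_mem_CU s⟩
      = MulAut.conj (QuotientGroup.mk s : Cfsg.PSU n F q) := by
  apply MulEquiv.ext
  intro x
  obtain ⟨t, rfl⟩ := QuotientGroup.mk_surjective x
  rw [cjC_mk, MulAut.conj_apply, ← QuotientGroup.mk_inv, ← QuotientGroup.mk_mul,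
    ← QuotientGroup.mk_mul]
  congr 1

/-- central elements of the small group are mapped to central elements -/
theorem phiU_eq_one_of_center (D : FD ι τ σ₀ σ₀') (hσ₀q : ∀ a : F, σ₀ a = a ^ q)
    (hσ₀'q : ∀ a : E, σ₀' a = a ^ q₀) (hE : Fintype.card E = q₀ ^ 2) (hn : 3 ≤ n)
    (x : ↥(Cfsg.SU n E q₀)) (hx : x ∈ Subgroup.center ↥(Cfsg.SU n E q₀)) :
    phiU D hσ₀q hσ₀'q x = 1 := by
  obtain ⟨l, hl, -, -⟩ := center_scalar hE hn x hx
  rw [phiU_apply, QuotientGroup.eq_one_iff]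
  apply mem_center_of_scalar _ (ι l)
  rw [emS_coe, hl]
  ext i j
  by_cases hij : i = j
  · subst hij
    simp
  · simp [Matrix.one_apply_ne hij]

set_option maxHeartbeats 1600000 in
theorem hA_field_U (D : FD ι τ σ₀ σ₀') (hσ₀q : ∀ a : F, σ₀ a = a ^ q)
    (hσ₀'q : ∀ a : E, σ₀' a = a ^ q₀) (hF : Fintype.card F = q ^ 2)
    (hE : Fintype.card E = q₀ ^ 2) (hn : 3 ≤ n) (h32 : ¬ (n = 3 ∧ q₀ = 2))
    (r : ℕ) [Fact r.Prime] [CharP F r] (p : ℕ) [Fact p.Prime]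
    (hdvd0 : p ∣ Nat.card ↥(phiU (n := n) D hσ₀q hσ₀'q).range)
    (Dg : Subgroup (Cfsg.PSU n F q))
    (hDfix : ∀ d ∈ Dg, (fa τ : MulAut (Cfsg.PSU n F q)) d = d)
    (hDcop : (Nat.card Dg).Coprime p)
    (hDnorm : ∀ l ∈ ((phiU (n := n) D hσ₀q hσ₀'q).range : Set (Cfsg.PSU n F q)),
      ∀ d ∈ Dg, l * d * l⁻¹ ∈ Dg) : Dg = ⊥ := by
  classical
  haveI := finite_PSU (n := n) (F := F) (q := q)
  have hp : p.Prime := Fact.out
  obtain ⟨φ, hφ⟩ : ∃ φ, φ = phiU (n := n) D hσ₀q hσ₀'q := ⟨_, rfl⟩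
  rw [← hφ] at hdvd0 hDnorm
  have hD1 : Dg ⊓ φ.range = ⊥ := by
    haveI hsimple := UT.simple_PSU hE hn h32
    obtain ⟨N₀, hN₀⟩ : ∃ N₀, N₀ = (Dg ⊓ φ.range).comap φ := ⟨_, rfl⟩
    haveI hN₀n : N₀.Normal := by
      refine ⟨fun x hx g => ?_⟩
      rw [hN₀, Subgroup.mem_comap] at hx ⊢
      rw [map_mul, map_mul, map_inv]
      exact ⟨hDnorm _ ⟨g, rfl⟩ _ hx.1,
        φ.range.mul_mem (φ.range.mul_mem ⟨g, rfl⟩ hx.2) (φ.range.inv_mem ⟨g, rfl⟩)⟩
    have hMn : (N₀.map (QuotientGroup.mk' (Subgroup.center ↥(Cfsg.SU n E q₀)))).Normal :=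
      Subgroup.Normal.map hN₀n _ (QuotientGroup.mk'_surjective _)
    rcases hMn.eq_bot_or_eq_top with hM | hM
    · rw [eq_bot_iff]
      rintro d ⟨hd1, x, rfl⟩
      rw [Subgroup.mem_bot]
      have hx : x ∈ N₀ := by
        rw [hN₀, Subgroup.mem_comap]
        exact ⟨hd1, x, rfl⟩
      have h1 : QuotientGroup.mk' (Subgroup.center ↥(Cfsg.SU n E q₀)) x
          ∈ N₀.map (QuotientGroup.mk' (Subgroup.center ↥(Cfsg.SU n E q₀))) := ⟨x, hx, rfl⟩
      rw [hM, Subgroup.mem_bot, QuotientGroup.mk'_apply, QuotientGroup.eq_one_iff] at h1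
      rw [hφ]
      exact phiU_eq_one_of_center D hσ₀q hσ₀'q hE hn x h1
    · exfalso
      have hle : φ.range ≤ Dg := by
        rintro _ ⟨g, rfl⟩
        have h1 : QuotientGroup.mk' (Subgroup.center ↥(Cfsg.SU n E q₀)) g
            ∈ N₀.map (QuotientGroup.mk' (Subgroup.center ↥(Cfsg.SU n E q₀))) := by
          rw [hM]
          exact Subgroup.mem_top _
        obtain ⟨x, hx, hxg⟩ := h1
        rw [QuotientGroup.mk'_apply, QuotientGroup.mk'_apply] at hxg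
        have h2 := QuotientGroup.eq.1 hxg
        have h3 : φ (x⁻¹ * g) = 1 := by
          rw [hφ]
          exact phiU_eq_one_of_center D hσ₀q hσ₀'q hE hn _ h2
        have h4 : φ g = φ x := by
          have : g = x * (x⁻¹ * g) := by group
          rw [this, map_mul, h3, mul_one]
        rw [h4]
        have hx' : x ∈ N₀ := hx
        rw [hN₀, Subgroup.mem_comap] at hx'
        exact hx'.1
      have h5 := Subgroup.card_dvd_of_le hle
      have h6 := hdvd0.trans h5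
      exact hp.one_lt.ne' (Nat.eq_one_of_dvd_coprimes hDcop.symm (dvd_refl p) h6)
  rw [eq_bot_iff]
  intro d hd
  rw [Subgroup.mem_bot]
  have hcomm : ∀ y ∈ φ.range, d * y * d⁻¹ = y := by
    intro y hy
    have h1 : d * (y * d⁻¹ * y⁻¹) ∈ Dg ⊓ φ.range := by
      refine ⟨Dg.mul_mem hd ?_, ?_⟩
      · exact hDnorm y hy _ (Dg.inv_mem hd)
      · have h2 : d * y * d⁻¹ ∈ φ.range := by
          rw [hφ] at hy ⊢
          exact conj_mem_LU D hσ₀q hσ₀'q (hDfix d hd) hy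
        have h3 : d * (y * d⁻¹ * y⁻¹) = d * y * d⁻¹ * y⁻¹ := by group
        rw [h3]
        exact φ.range.mul_mem h2 (φ.range.inv_mem hy)
    rw [hD1, Subgroup.mem_bot] at h1
    have h3 : d * y * d⁻¹ = d * (y * d⁻¹ * y⁻¹) * y := by group
    rw [h3, h1, one_mul]
  obtain ⟨s, rfl⟩ := QuotientGroup.mk_surjective d
  obtain ⟨-, κ, hκ0, hκ⟩ := semi_rigid_U D hσ₀q hσ₀'q hF hE hn r
    ⟨Matrix.SpecialLinearGroup.toGL (s : SpecialLinearGroup (Fin n) F), toGL_mem_CU s⟩ 1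
    (by
      intro w hw a ha
      rw [map_one, mul_one, cjC_toGL, MulAut.conj_apply]
      apply hcomm
      rw [hφ]
      exact ⟨_, rfl⟩)
  rw [QuotientGroup.eq_one_iff]
  apply mem_center_of_scalar s κ
  rw [← hκ]
  rfl

set_option maxHeartbeats 1600000 in
theorem hB_field_U (D : FD ι τ σ₀ σ₀') (hσ₀q : ∀ a : F, σ₀ a = a ^ q)
    (hσ₀'q : ∀ a : E, σ₀' a = a ^ q₀) (hF : Fintype.card F = q ^ 2)
    (hE : Fintype.card E = q₀ ^ 2) (hn : 3 ≤ n) (h32 : ¬ (n = 3 ∧ q = 2))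
    (r : ℕ) [Fact r.Prime] [CharP F r] {f : ℕ} (hq : q = r ^ f) (p : ℕ) (hτ : orderOf τ = p)
    (ν : MulAut (Cfsg.PSU n F q))
    (hfix : ∀ l ∈ (phiU (n := n) D hσ₀q hσ₀'q).range, ν l = l)
    (hcop : (orderOf ν).Coprime p) : ν = 1 := by
  obtain ⟨h, τ', rfl⟩ := aut_PSU hq hF hn h32 ν
  obtain ⟨hτ', κ, hκ0, hκ⟩ := semi_rigid_U D hσ₀q hσ₀'q hF hE hn r h τ'
    (fun w hw a ha => hfix _ ⟨_, rfl⟩)
  have h1 : cjC h = 1 := cjC_eq_one_of_scalar h κ hκ0 hκ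
  rw [h1, one_mul] at hcop ⊢
  have hτz : τ' ∈ Subgroup.zpowers τ := by
    apply mem_zpowers_of_fixes τ τ'
    intro a ha
    obtain ⟨a₀, rfl⟩ := (D.fixed a).1 ha
    exact hτ' a₀
  obtain ⟨j, hj⟩ := Subgroup.mem_zpowers_iff.1 hτz
  have hτp : τ' ^ p = 1 := by
    rw [← hj, ← zpow_natCast, ← _root_.zpow_mul, mul_comm, _root_.zpow_mul, zpow_natCast, ← hτ,
      pow_orderOf_eq_one, _root_.one_zpow]
  have h2 : (fa τ' : MulAut (Cfsg.PSU n F q)) ^ p = 1 := by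
    rw [← map_pow, hτp, map_one]
  have h3 := orderOf_dvd_of_pow_eq_one h2
  have h4 := Nat.Coprime.eq_one_of_dvd hcop h3
  exact orderOf_eq_one_iff.1 h4

end FieldU7

end Cfsg.Agent.Lib.Helper5.UBal
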