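import Mathlib
import Cfsg.Agent.Lib.Helper1.SUCenter
import Cfsg.Agent.Lib.Helper2.UT13

set_option autoImplicit false

/-! Fixed vectors of subgroups of the special unitary group whose order is a power of the
characteristic. -/

namespace Cfsg.Agent.Lib.Helper5.UBal

open Matrix Cfsg.Agent.Lib.Helper2

section Spec32a
variable {n : ℕ} {E : Type*} [Field E] [Fintype E] {q₀ : ℕ}

theorem exists_fixed_vector (H₀ : Subgroup ↥(Cfsg.SU n E q₀)) (p : ℕ) [Fact p.Prime]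
    (hp : IsPGroup p ↥H₀) (hpE : p ∣ Fintype.card E) (hn : 0 < n) :
    ∃ b : Fin n → E, b ≠ 0 ∧ ∀ x ∈ H₀,
      ((x : SpecialLinearGroup (Fin n) E) : Matrix (Fin n) (Fin n) E) *ᵥ b = b := by
  classical
  letI act : MulAction ↥H₀ (Fin n → E) :=
    MulAction.compHom (Fin n → E) ((UT.suLin n E q₀).comp H₀.subtype)
  have hcardW : p ∣ Nat.card (Fin n → E) := by
    rw [Nat.card_eq_fintype_card, Fintype.card_fun, Fintype.card_fin]
    exact dvd_pow hpE hn.ne'
  have h0fix : (0 : Fin n → E) ∈ MulAction.fixedPoints ↥H₀ (Fin n → E) := by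
    intro x
    exact Matrix.mulVec_zero
      (((x : ↥(Cfsg.SU n E q₀)) : SpecialLinearGroup (Fin n) E) : Matrix (Fin n) (Fin n) E)
  obtain ⟨b, hbfix, hb0⟩ :=
    hp.exists_fixed_point_of_prime_dvd_card_of_fixed_point (Fin n → E) hcardW h0fix
  exact ⟨b, hb0.symm, fun x hx => hbfix ⟨x, hx⟩⟩

/-- the space of vectors fixed by a subgroup -/
def fixSub (H₀ : Subgroup ↥(Cfsg.SU n E q₀)) : Submodule E (Fin n → E) where
  carrier := {w | ∀ x ∈ H₀,
    ((x : SpecialLinearGroup (Fin n) E) : Matrix (Fin n) (Fin n) E) *ᵥ w = w}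
  add_mem' := by
    intro u v hu hv x hx
    rw [Matrix.mulVec_add, hu x hx, hv x hx]
  zero_mem' := by
    intro x _
    rw [Matrix.mulVec_zero]
  smul_mem' := by
    intro c u hu x hx
    rw [Matrix.mulVec_smul, hu x hx]

theorem mem_fixSub (H₀ : Subgroup ↥(Cfsg.SU n E q₀)) (w : Fin n → E) :
    w ∈ fixSub H₀ ↔ ∀ x ∈ H₀,
      ((x : SpecialLinearGroup (Fin n) E) : Matrix (Fin n) (Fin n) E) *ᵥ w = w := Iff.rfl

/-- the space of fixed vectors of a normal subgroup is invariant -/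
theorem fixSub_invariant (H₀ : Subgroup ↥(Cfsg.SU n E q₀))
    (hnorm : ∀ g x, x ∈ H₀ → g * x * g⁻¹ ∈ H₀) (g : ↥(Cfsg.SU n E q₀)) (w : Fin n → E)
    (hw : w ∈ fixSub H₀) :
    ((g : SpecialLinearGroup (Fin n) E) : Matrix (Fin n) (Fin n) E) *ᵥ w ∈ fixSub H₀ := by
  rw [mem_fixSub] at hw ⊢
  intro x hx
  have h1 := hnorm g⁻¹ x hx
  rw [inv_inv] at h1
  have h3 := hw _ h1
  have h4 : x * g = g * (g⁻¹ * x * g) := by group
  have h5 := congrArg (fun s : ↥(Cfsg.SU n E q₀) =>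
    ((s : SpecialLinearGroup (Fin n) E) : Matrix (Fin n) (Fin n) E)) h4
  simp only [Subgroup.coe_mul, Matrix.SpecialLinearGroup.coe_mul] at h5
  rw [Matrix.mulVec_mulVec, h5, ← Matrix.mulVec_mulVec]
  congr 1

/-- a subgroup fixing all basis vectors is trivial -/
theorem eq_bot_of_fixSub (H₀ : Subgroup ↥(Cfsg.SU n E q₀))
    (h : ∀ i : Fin n, (Pi.single i (1 : E) : Fin n → E) ∈ fixSub H₀) : H₀ = ⊥ := by
  classical
  rw [eq_bot_iff]
  intro x hx
  rw [Subgroup.mem_bot]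
  apply Subtype.ext
  apply Subtype.ext
  ext i j
  have h1 := congrFun ((mem_fixSub H₀ _).1 (h j) x hx) i
  rw [Matrix.mulVec_single_one, Matrix.col_apply] at h1
  rw [h1]
  simp [Matrix.one_apply, Pi.single_apply]

end Spec32a

end Cfsg.Agent.Lib.Helper5.UBal
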