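import Mathlib
import Cfsg.Agent.Lib.Helper5.UBal.Spec32a

set_option autoImplicit false

/-! The special unitary group `SU_3(2)` has no nontrivial normal `2`-subgroup. -/

namespace Cfsg.Agent.Lib.Helper5.UBal

open Matrix Cfsg.Agent.Lib.Helper2 Cfsg.Agent.Lib.Helper1.SUCenter

section Spec32b
variable {E : Type*} [Field E] [Fintype E]

theorem charTwo_of_card_four (hE : Fintype.card E = 2 ^ 2) : CharP E 2 := by
  haveI : Fact (Nat.Prime 2) := ⟨Nat.prime_two⟩
  exact charP_of_card_eq_prime_pow hE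

/-- a primitive cube root of unity in the field with four elements -/
theorem exists_omega (hE : Fintype.card E = 2 ^ 2) :
    ∃ ω : E, ω ≠ 0 ∧ ω ≠ 1 ∧ ω ^ 3 = 1 ∧ ω ^ 2 + ω + 1 = 0 := by
  classical
  have hcard : Fintype.card Eˣ = 3 := by rw [Fintype.card_units, hE]; norm_num
  haveI : Nontrivial Eˣ := by
    rw [← Fintype.one_lt_card_iff_nontrivial, hcard]
    norm_num
  obtain ⟨ω, hω⟩ := exists_ne (1 : Eˣ)
  have h3 : ω ^ 3 = 1 := by
    rw [← hcard]
    exact pow_card_eq_one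
  have h3' : (ω : E) ^ 3 = 1 := by
    rw [← Units.val_pow_eq_pow_val, h3, Units.val_one]
  have hne : (ω : E) ≠ 1 := fun h => hω (Units.ext h)
  refine ⟨ω, ω.ne_zero, hne, h3', ?_⟩
  have h4 : ((ω : E) - 1) * ((ω : E) ^ 2 + ω + 1) = 0 := by
    have : ((ω : E) - 1) * ((ω : E) ^ 2 + ω + 1) = (ω : E) ^ 3 - 1 := by ring
    rw [this, h3', sub_self]
  rcases mul_eq_zero.1 h4 with h5 | h5
  · exact absurd (sub_eq_zero.1 h5) hne
  · exact h5

/-- permutation matrices in characteristic two -/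
theorem det_perm_charTwo [CharP E 2] (σ : Equiv.Perm (Fin 3)) : (σ.permMatrix E).det = 1 := by
  rw [Matrix.det_permutation]
  rcases Int.units_eq_one_or (Equiv.Perm.sign σ) with h | h
  · rw [h]
    simp
  · rw [h]
    simp only [Units.val_neg, Units.val_one, Int.cast_neg, Int.cast_one]
    exact CharTwo.neg_eq 1

set_option maxHeartbeats 3200000 in
/-- a normal `2`-subgroup of `SU_3(2)` is trivial -/
theorem normal_two_subgroup_trivial (hE : Fintype.card E = 2 ^ 2)
    (H₀ : Subgroup ↥(Cfsg.SU 3 E 2)) (hnorm : ∀ g x, x ∈ H₀ → g * x * g⁻¹ ∈ H₀)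
    (h2 : IsPGroup 2 ↥H₀) : H₀ = ⊥ := by
  classical
  haveI : Fact (Nat.Prime 2) := ⟨Nat.prime_two⟩
  haveI := charTwo_of_card_four hE
  obtain ⟨ω, hω0, hω1, hω3, hω⟩ := exists_omega hE
  have h11 : (1 : E) + 1 = 0 := CharTwo.add_self_eq_zero 1
  obtain ⟨b, hb0, hbfix⟩ := exists_fixed_vector H₀ 2 h2 (by rw [hE]; norm_num) (by norm_num)
  have hbU : b ∈ fixSub H₀ := (mem_fixSub H₀ b).2 hbfix
  -- the diagonal element
  obtain ⟨d, hd⟩ : ∃ d : Fin 3 → E, d = ![1, ω, ω ^ 2] := ⟨_, rfl⟩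
  have hdn : ∀ i, Cfsg.Agent.Lib.Helper1.HermCount.nrm 2 (d i) = 1 := by
    intro i
    unfold Cfsg.Agent.Lib.Helper1.HermCount.nrm
    rw [hd]
    fin_cases i
    · simp
    · simp only [Fin.mk_one, Fin.isValue, Matrix.cons_val_one, Matrix.cons_val_zero]
      linear_combination hω3
    · simp only [Fin.reduceFinMk, Fin.isValue, Matrix.cons_val_two, Matrix.tail_cons,
        Matrix.head_cons]
      linear_combination (ω ^ 3 + 1) * hω3
  have hdp : ∏ i, d i = 1 := by
    rw [hd, Fin.prod_univ_three]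
    simp only [Fin.isValue, Matrix.cons_val_zero, Matrix.cons_val_one, Matrix.cons_val_two,
      Matrix.tail_cons, Matrix.head_cons]
    linear_combination hω3
  obtain ⟨a₀, ha₀⟩ : ∃ a₀ : ↥(Cfsg.SU 3 E 2), a₀ = diagSU d hdn hdp := ⟨_, rfl⟩
  have ha₀v : ∀ w : Fin 3 → E, ((a₀ : SpecialLinearGroup (Fin 3) E) : Matrix (Fin 3) (Fin 3) E)
      *ᵥ w = fun i => d i * w i := by
    intro w
    rw [ha₀]
    funext i
    show (Matrix.diagonal d *ᵥ w) i = _
    rw [Matrix.mulVec_diagonal]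
  -- the projections
  have hproj : ∀ k : Fin 3, (b k) • (Pi.single k (1 : E) : Fin 3 → E) ∈ fixSub H₀ := by
    intro k
    have h1 := fixSub_invariant H₀ hnorm a₀ b hbU
    have h2' := fixSub_invariant H₀ hnorm a₀ _ h1
    have h3 : b + (ω ^ (2 * k.val)) • (((a₀ : SpecialLinearGroup (Fin 3) E) :
        Matrix (Fin 3) (Fin 3) E) *ᵥ b)
        + (ω ^ k.val) • (((a₀ : SpecialLinearGroup (Fin 3) E) : Matrix (Fin 3) (Fin 3) E)
          *ᵥ (((a₀ : SpecialLinearGroup (Fin 3) E) : Matrix (Fin 3) (Fin 3) E) *ᵥ b))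
        ∈ fixSub H₀ :=
      (fixSub H₀).add_mem ((fixSub H₀).add_mem hbU ((fixSub H₀).smul_mem _ h1))
        ((fixSub H₀).smul_mem _ h2')
    have h4 : b + (ω ^ (2 * k.val)) • (((a₀ : SpecialLinearGroup (Fin 3) E) :
        Matrix (Fin 3) (Fin 3) E) *ᵥ b)
        + (ω ^ k.val) • (((a₀ : SpecialLinearGroup (Fin 3) E) : Matrix (Fin 3) (Fin 3) E)
          *ᵥ (((a₀ : SpecialLinearGroup (Fin 3) E) : Matrix (Fin 3) (Fin 3) E) *ᵥ b))
        = (b k) • (Pi.single k (1 : E) : Fin 3 → E) := by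
      rw [ha₀v, ha₀v]
      funext i
      rw [hd]
      fin_cases k <;> fin_cases i <;>
        simp only [Pi.add_apply, Pi.smul_apply, smul_eq_mul, Pi.single_apply, Fin.zero_eta,
          Fin.mk_one, Fin.reduceFinMk, Fin.isValue, Matrix.cons_val_zero, Matrix.cons_val_one,
          Matrix.cons_val_two, Matrix.tail_cons, Matrix.head_cons, Fin.val_zero, Fin.val_one,
          Fin.val_two, mul_zero, pow_zero, mul_one, one_mul, if_true, if_false, Fin.reduceEq]
      · linear_combination (b 0) * h11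
      · linear_combination (b 1) * hω
      · linear_combination (b 2) * (hω + ω * hω3)
      · linear_combination (b 0) * hω
      · linear_combination (b 1) * (ω ^ 3 * h11)
      · linear_combination (b 2) * (hω + (ω + ω ^ 2) * hω3)
      · linear_combination (b 0) * (hω + ω * hω3)
      · linear_combination (b 1) * (hω + (ω + ω ^ 2) * hω3)
      · linear_combination (b 2) * (ω ^ 6 * h11)
    rw [← h4]
    exact h3
  obtain ⟨k, hk⟩ : ∃ k, b k ≠ 0 := by
    by_contra hcon
    push Not at hcon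
    exact hb0 (funext hcon)
  have hek : (Pi.single k (1 : E) : Fin 3 → E) ∈ fixSub H₀ := by
    have h1 := (fixSub H₀).smul_mem (b k)⁻¹ (hproj k)
    rwa [smul_smul, inv_mul_cancel₀ hk, one_smul] at h1
  apply eq_bot_of_fixSub
  intro i
  by_cases hik : i = k
  · rw [hik]
    exact hek
  · obtain ⟨c₀, hc₀⟩ : ∃ c₀ : ↥(Cfsg.SU 3 E 2), c₀ =
        mkSU ((Equiv.swap i k).permMatrix E) (det_perm_charTwo _) (perm_preserves _) := ⟨_, rfl⟩
    have h1 := fixSub_invariant H₀ hnorm c₀ _ hek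
    have h2' : ((c₀ : SpecialLinearGroup (Fin 3) E) : Matrix (Fin 3) (Fin 3) E)
        *ᵥ (Pi.single k (1 : E) : Fin 3 → E) = Pi.single i 1 := by
      rw [hc₀, mkSU_coe, Matrix.permMatrix_mulVec]
      funext x
      rw [Function.comp_apply, Pi.single_apply, Pi.single_apply]
      by_cases hx : x = i
      · rw [hx, Equiv.swap_apply_left, if_pos rfl, if_pos rfl]
      · rw [if_neg hx, if_neg]
        intro h
        apply hx
        have := congrArg (Equiv.swap i k) h
        rwa [Equiv.swap_apply_self, Equiv.swap_apply_right] at this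
    rw [← h2']
    exact h1

end Spec32b

end Cfsg.Agent.Lib.Helper5.UBal
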