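import Mathlib
import Cfsg.Agent.Lib.Helper5.UBal.Spec32b
import Cfsg.Agent.Lib.Helper5.UBal.CopLift
import Cfsg.Agent.Lib.Helper5.UBal.FieldU4
import Cfsg.Agent.S0282

set_option autoImplicit false

/-! The exceptional case `PSU_3(8)`, `p = 3`: subgroups of fixed points of order prime to `3`
normalized by the image of `SU_3(2)` are trivial. -/

namespace Cfsg.Agent.Lib.Helper5.UBal

open Matrix Cfsg.Agent.Lib.Helper5.PSLCoset Cfsg.Agent.Lib.Helper5.PSUAut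
  Cfsg.Agent.Lib.Helper5.UAut Cfsg.Agent.Lib.Helper5.PSUField Cfsg.Agent.Lib.Helper5.SLnAut
  Cfsg.Agent.Lib.Helper5.LBal

section Spec32c
variable {F : Type*} [Field F] [Fintype F] {q : ℕ} {E : Type*} [Field E] [Fintype E]
  {ι : E →+* F} {τ σ₀ : F ≃+* F} {σ₀' : E ≃+* E}

/-- central elements of `SU_3` have order dividing three -/
theorem center_pow_three {q : ℕ} {F : Type*} [Field F] [Fintype F] (hF : Fintype.card F = q ^ 2)
    (z : ↥(Cfsg.SU 3 F q)) (hz : z ∈ Subgroup.center ↥(Cfsg.SU 3 F q)) : z ^ 3 = 1 := by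
  obtain ⟨l, hl, -, hl3⟩ := center_scalar hF (le_refl 3) z hz
  apply Subtype.ext
  apply Subtype.ext
  rw [Subgroup.coe_pow, Matrix.SpecialLinearGroup.coe_pow, hl, smul_pow, one_pow, hl3, one_smul]
  rfl

theorem coprime_of_pow_three {G : Type*} [Group G] [Finite G] (Z : Subgroup G)
    (hZ : ∀ z ∈ Z, z ^ 3 = 1) (m : ℕ) (hm : m.Coprime 3) : (Nat.card Z).Coprime m := by
  haveI : Fact (Nat.Prime 3) := ⟨Nat.prime_three⟩
  have hp : IsPGroup 3 ↥Z := by
    intro g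
    refine ⟨1, ?_⟩
    rw [pow_one]
    apply Subtype.ext
    rw [Subgroup.coe_pow, Subgroup.coe_one]
    exact hZ g g.2
  obtain ⟨k, hk⟩ := IsPGroup.iff_card.1 hp
  rw [hk]
  exact Nat.Coprime.pow_left k hm.symm

set_option maxHeartbeats 3200000 in
theorem hA_field_U32 (D : FD ι τ σ₀ σ₀') (hσ₀q : ∀ a : F, σ₀ a = a ^ q)
    (hσ₀'q : ∀ a : E, σ₀' a = a ^ 2) (hF : Fintype.card F = q ^ 2)
    (hE : Fintype.card E = 2 ^ 2)
    (Dg : Subgroup (Cfsg.PSU 3 F q))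
    (hDfix : ∀ d ∈ Dg, (fa τ : MulAut (Cfsg.PSU 3 F q)) d = d)
    (hDcop : (Nat.card Dg).Coprime 3)
    (hDnorm : ∀ l ∈ ((phiU (n := 3) D hσ₀q hσ₀'q).range : Set (Cfsg.PSU 3 F q)),
      ∀ d ∈ Dg, l * d * l⁻¹ ∈ Dg) : Dg = ⊥ := by
  classical
  haveI := finite_PSU (n := 3) (F := F) (q := q)
  haveI := finite_SU (n := 3) (F := F) (q := q)
  haveI := finite_SU (n := 3) (F := E) (q := 2)
  haveI : Fact (Nat.Prime 2) := ⟨Nat.prime_two⟩
  obtain ⟨π, hπ⟩ : ∃ π, π = QuotientGroup.mk' (Subgroup.center ↥(Cfsg.SU 3 F q)) := ⟨_, rfl⟩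
  have hπker : π.ker = Subgroup.center ↥(Cfsg.SU 3 F q) := by
    rw [hπ]
    exact QuotientGroup.ker_mk' _
  have hπapp : ∀ s, π s = (QuotientGroup.mk s : Cfsg.PSU 3 F q) := by
    intro s
    rw [hπ]
    rfl
  have hcop : (Nat.card π.ker).Coprime (Nat.card Dg) := by
    apply coprime_of_pow_three _ _ _ hDcop
    intro z hz
    rw [hπker] at hz
    exact center_pow_three hF z hz
  obtain ⟨H, hHcard, hHmap, hHmem⟩ := exists_coprime_lift π (by rw [hπker]) Dg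
    (by
      intro d _
      obtain ⟨s, rfl⟩ := QuotientGroup.mk_surjective d
      exact ⟨s, hπapp s⟩) hcop
  -- the lift consists of fixed matrices
  have hHfix : ∀ s ∈ H, thetaF τ s = s := by
    intro s hs
    obtain ⟨hs1, hs2⟩ := (hHmem s).1 hs
    have hθH : thetaF τ s ∈ H := by
      rw [hHmem]
      refine ⟨?_, by rw [← map_pow, hs2, map_one]⟩
      rw [hπapp, ← fa_mk', ← hπapp, hDfix _ hs1]
      exact hs1
    have hz : s⁻¹ * thetaF τ s ∈ Subgroup.center ↥(Cfsg.SU 3 F q) := by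
      apply lift_mem_center
      rw [← hπapp]
      exact hDfix _ hs1
    have hzH : s⁻¹ * thetaF τ s ∈ H := H.mul_mem (H.inv_mem hs) hθH
    have h3 := center_pow_three hF _ hz
    have h4 := ((hHmem _).1 hzH).2
    have h5 : orderOf (s⁻¹ * thetaF τ s) ∣ Nat.gcd (Nat.card Dg) 3 :=
      Nat.dvd_gcd (orderOf_dvd_of_pow_eq_one h4) (orderOf_dvd_of_pow_eq_one h3)
    rw [hDcop.gcd_eq_one, Nat.dvd_one, orderOf_eq_one_iff] at h5
    have : thetaF τ s = s * (s⁻¹ * thetaF τ s) := by group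
    rw [this, h5, mul_one]
  obtain ⟨em, hem⟩ : ∃ em, em = emS (n := 3) D hσ₀q hσ₀'q := ⟨_, rfl⟩
  have heminj : Function.Injective em := by
    rw [hem]
    exact emS_injective D hσ₀q hσ₀'q
  obtain ⟨H₀, hH₀⟩ : ∃ H₀, H₀ = H.comap em := ⟨_, rfl⟩
  have hHle : H ≤ em.range := by
    intro s hs
    rw [hem]
    obtain ⟨s₀, hs₀⟩ := exists_emS_of_thetaF D hσ₀q hσ₀'q s (hHfix s hs)
    exact ⟨s₀, hs₀⟩
  have hH₀card : Nat.card H₀ = Nat.card Dg := by
    rw [← hHcard, ← Subgroup.map_comap_eq_self hHle, ← hH₀,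
      Subgroup.card_map_of_injective heminj]
  have hH₀norm : ∀ g x, x ∈ H₀ → g * x * g⁻¹ ∈ H₀ := by
    intro g x hx
    rw [hH₀, Subgroup.mem_comap] at hx ⊢
    rw [map_mul, map_mul, map_inv, hHmem]
    obtain ⟨hx1, hx2⟩ := (hHmem _).1 hx
    refine ⟨?_, ?_⟩
    · rw [map_mul, map_mul, map_inv]
      apply hDnorm _ _ _ hx1
      refine ⟨g, ?_⟩
      rw [phiU_apply, hπapp, hem]
    · rw [conj_pow, hx2, mul_one, mul_inv_cancel]
  -- `H₀` is a `2`-group
  have hH₀2 : IsPGroup 2 ↥H₀ := by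
    obtain ⟨π₀, hπ₀⟩ : ∃ π₀, π₀ = QuotientGroup.mk' (Subgroup.center ↥(Cfsg.SU 3 E 2)) :=
      ⟨_, rfl⟩
    have hinj : Function.Injective (π₀.comp H₀.subtype) := by
      rw [injective_iff_map_eq_one]
      intro x hx
      have hxc : (x : ↥(Cfsg.SU 3 E 2)) ∈ Subgroup.center ↥(Cfsg.SU 3 E 2) := by
        rw [← QuotientGroup.ker_mk' (Subgroup.center ↥(Cfsg.SU 3 E 2)), ← hπ₀]
        exact hx
      have h3 := center_pow_three hE _ hxc
      have h4 : (x : ↥(Cfsg.SU 3 E 2)) ^ Nat.card H₀ = 1 := by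
        have := pow_card_eq_one' (G := ↥H₀) (x := x)
        have h2 := congrArg Subtype.val this
        rw [Subgroup.coe_pow, Subgroup.coe_one] at h2
        exact h2
      rw [hH₀card] at h4
      have h5 : orderOf (x : ↥(Cfsg.SU 3 E 2)) ∣ Nat.gcd (Nat.card Dg) 3 :=
        Nat.dvd_gcd (orderOf_dvd_of_pow_eq_one h4) (orderOf_dvd_of_pow_eq_one h3)
      rw [hDcop.gcd_eq_one, Nat.dvd_one, orderOf_eq_one_iff] at h5
      exact Subtype.ext h5
    have hdvd := Subgroup.card_dvd_of_injective _ hinj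
    rw [(Cfsg.Agent.S0282.result hE).1, hH₀card] at hdvd
    have h8 : Nat.card Dg ∣ 2 ^ 3 := by
      have h72 : (72 : ℕ) = 2 ^ 3 * 9 := by norm_num
      rw [h72] at hdvd
      have hc9 : (Nat.card Dg).Coprime 9 := by
        have : (9 : ℕ) = 3 ^ 2 := by norm_num
        rw [this]
        exact Nat.Coprime.pow_right 2 hDcop
      exact hc9.dvd_of_dvd_mul_right hdvd
    obtain ⟨j, -, hj⟩ := (Nat.dvd_prime_pow Nat.prime_two).1 h8
    exact IsPGroup.of_card (by rw [hH₀card, hj])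
  have hbot := normal_two_subgroup_trivial hE H₀ hH₀norm hH₀2
  rw [hbot, Subgroup.card_bot] at hH₀card
  exact Subgroup.card_eq_one.1 hH₀card.symm

end Spec32c

end Cfsg.Agent.Lib.Helper5.UBal
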