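import Mathlib
import Cfsg.Agent.Lib.Helper5.UBal.FieldU7
import Cfsg.Agent.Lib.Helper5.UBal.Spec32c

set_option autoImplicit false

/-! The centralizer of the standard field automorphism of odd prime order `p` of `PSU_n(q)` has
trivial `p'`-core if `p` divides the number of fixed points. -/

namespace Cfsg.Agent.Lib.Helper5.UBal

open Matrix Module Cfsg.Agent.Lib.Helper5.PSLCoset Cfsg.Agent.Lib.Helper5.PSUAut
  Cfsg.Agent.Lib.Helper5.UAut Cfsg.Agent.Lib.Helper5.PSUField Cfsg.Agent.Lib.Helper5.SLnAut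
  Cfsg.Agent.Lib.Helper5.LBal Cfsg.Agent.Lib.Helper2 Cfsg.Agent.Lib.Helper5.PSpBal

section FieldU8
variable {n : ℕ} {F : Type*} [Field F] [Fintype F] {q q₀ : ℕ} {E : Type*} [Field E] [Fintype E]
  {ι : E →+* F} {τ σ₀ : F ≃+* F} {σ₀' : E ≃+* E}

theorem conj_injective_PSU (hF : Fintype.card F = q ^ 2) (hn : 3 ≤ n) :
    Function.Injective (MulAut.conj : Cfsg.PSU n F q →* MulAut (Cfsg.PSU n F q)) := by
  rw [injective_iff_map_eq_one]
  intro k hk
  obtain ⟨s, rfl⟩ := QuotientGroup.mk_surjective k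
  rw [← cjC_toGL, cjC_eq_one_iff hF hn] at hk
  obtain ⟨l, -, hl⟩ := hk
  rw [QuotientGroup.eq_one_iff]
  exact mem_center_of_scalar s l hl

/-- the image of the small group is not trivial -/
theorem exists_phiU_ne_one (D : FD ι τ σ₀ σ₀') (hσ₀q : ∀ a : F, σ₀ a = a ^ q)
    (hσ₀'q : ∀ a : E, σ₀' a = a ^ q₀) (hF : Fintype.card F = q ^ 2)
    (hE : Fintype.card E = q₀ ^ 2) (hn : 3 ≤ n) :
    ∃ x : ↥(Cfsg.SU n E q₀), phiU D hσ₀q hσ₀'q x ≠ 1 := by
  classical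
  obtain ⟨ζ, hζn, hζ1, hζ0⟩ := Cfsg.Agent.Lib.Helper1.SUCenter.exists_norm_one_ne_one hE
  obtain ⟨i0, hi0⟩ : ∃ i0 : Fin n, i0 = ⟨0, by omega⟩ := ⟨_, rfl⟩
  obtain ⟨i1, hi1⟩ : ∃ i1 : Fin n, i1 = ⟨1, by omega⟩ := ⟨_, rfl⟩
  obtain ⟨i2, hi2⟩ : ∃ i2 : Fin n, i2 = ⟨2, by omega⟩ := ⟨_, rfl⟩
  have h01 : i0 ≠ i1 := by rw [hi0, hi1]; simp
  have h20 : i2 ≠ i0 := by rw [hi0, hi2]; simp
  have h21 : i2 ≠ i1 := by rw [hi1, hi2]; simp
  have hnrm : ∀ i, Cfsg.Agent.Lib.Helper1.HermCount.nrm q₀ (diagV i0 i1 ζ i) = 1 := by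
    intro i
    have hinv := Cfsg.Agent.Lib.Helper1.SUCenter.nrm_inv (q := q₀) ζ hζn
    unfold diagV
    by_cases h0 : i = i0
    · by_cases h1 : i = i1
      · exact absurd (h0.symm.trans h1) h01
      · rw [if_pos h0, if_neg h1, mul_one]
        exact hζn
    · by_cases h1 : i = i1
      · rw [if_neg h0, if_pos h1, one_mul]
        exact hinv
      · rw [if_neg h0, if_neg h1, one_mul]
        exact Cfsg.Agent.Lib.Helper1.SUCenter.nrm_one
  refine ⟨Cfsg.Agent.Lib.Helper1.SUCenter.diagSU (diagV i0 i1 ζ) hnrm (prod_diagV hζ0), ?_⟩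
  intro h1
  rw [phiU_apply, QuotientGroup.eq_one_iff] at h1
  obtain ⟨l, hl, -, -⟩ := center_scalar hF hn _ h1
  rw [emS_coe] at hl
  have hcoe : (((Cfsg.Agent.Lib.Helper1.SUCenter.diagSU (diagV i0 i1 ζ) hnrm (prod_diagV hζ0) :
      ↥(Cfsg.SU n E q₀)) : SpecialLinearGroup (Fin n) E) : Matrix (Fin n) (Fin n) E)
      = Matrix.diagonal (diagV i0 i1 ζ) := rfl
  rw [hcoe] at hl
  have e0 := congrFun (congrFun hl i0) i0
  have e2 := congrFun (congrFun hl i2) i2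
  rw [Matrix.map_apply, Matrix.diagonal_apply_eq, Matrix.smul_apply, Matrix.one_apply_eq,
    smul_eq_mul, mul_one] at e0 e2
  rw [diagV_same0 h01] at e0
  rw [diagV_other h20 h21, map_one] at e2
  rw [← e2] at e0
  exact hζ1 (ι.injective (by rw [e0, map_one]))

/-- the order of the image divides the order of the small projective group -/
theorem card_range_phiU_dvd (D : FD ι τ σ₀ σ₀') (hσ₀q : ∀ a : F, σ₀ a = a ^ q)
    (hσ₀'q : ∀ a : E, σ₀' a = a ^ q₀) (hE : Fintype.card E = q₀ ^ 2) (hn : 3 ≤ n) :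
    Nat.card ↥(phiU (n := n) D hσ₀q hσ₀'q).range ∣ Nat.card (Cfsg.PSU n E q₀) := by
  have hle : Subgroup.center ↥(Cfsg.SU n E q₀) ≤ (phiU (n := n) D hσ₀q hσ₀'q).ker := by
    intro x hx
    rw [MonoidHom.mem_ker]
    exact phiU_eq_one_of_center D hσ₀q hσ₀'q hE hn x hx
  have h1 : (QuotientGroup.lift (Subgroup.center ↥(Cfsg.SU n E q₀))
      (phiU (n := n) D hσ₀q hσ₀'q) hle).range = (phiU (n := n) D hσ₀q hσ₀'q).range := by
    ext y
    constructor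
    · rintro ⟨x, rfl⟩
      obtain ⟨s, rfl⟩ := QuotientGroup.mk_surjective x
      exact ⟨s, rfl⟩
    · rintro ⟨s, rfl⟩
      exact ⟨QuotientGroup.mk s, rfl⟩
  rw [← h1]
  exact Subgroup.card_range_dvd _

set_option maxHeartbeats 1600000 in
theorem no_core_field_U_aux (D : FD ι τ σ₀ σ₀') (hσ₀q : ∀ a : F, σ₀ a = a ^ q)
    (hσ₀'q : ∀ a : E, σ₀' a = a ^ q₀) (hF : Fintype.card F = q ^ 2)
    (hE : Fintype.card E = q₀ ^ 2) (hn : 3 ≤ n) (h32 : ¬ (n = 3 ∧ q = 2))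
    (r : ℕ) [Fact r.Prime] [CharP F r] {f : ℕ} (hq : q = r ^ f) (p : ℕ) [Fact p.Prime]
    (hpr : p ≠ r) (hqq : q = q₀ ^ p) (hτ : orderOf τ = p)
    (hdvd : p ∣ Nat.card ↥(MonoidHom.eqLocus
      (fa τ : MulAut (Cfsg.PSU n F q)).toMonoidHom (MonoidHom.id _)))
    (A : Subgroup (MulAut (Cfsg.PSU n F q)))
    (hinn : ∀ k : Cfsg.PSU n F q, MulAut.conj k ∈ A)
    (N : Subgroup (MulAut (Cfsg.PSU n F q))) (hN : HasCore p A (fa τ) N) : False := by
  haveI := finite_PSU (n := n) (F := F) (q := q)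
  have hp : p.Prime := Fact.out
  have hdvd0 := dvd_card_LU D hσ₀q hσ₀'q hF hE hn p hqq hdvd
  refine no_core_abstract (conj_injective_PSU hF hn) p A hinn (fa τ)
    ((phiU (n := n) D hσ₀q hσ₀'q).range : Set (Cfsg.PSU n F q)) ?_ ?_ ?_ N hN
  · rintro _ ⟨x, rfl⟩
    exact fa_phiU D hσ₀q hσ₀'q x
  · intro Dg hDfix hDcop hDnorm
    by_cases h32' : n = 3 ∧ q₀ = 2
    · obtain ⟨rfl, rfl⟩ := h32'
      have h72 := card_range_phiU_dvd D hσ₀q hσ₀'q hE (le_refl 3)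
      rw [(Cfsg.Agent.S0282.result hE).1] at h72
      have hp72 : p ∣ 72 := hdvd0.trans h72
      have hr2 : r = 2 := by
        have hE' : Fintype.card E = 2 ^ 2 := hE
        haveI : Fact (Nat.Prime 2) := ⟨Nat.prime_two⟩
        haveI hc2 : CharP E 2 := charP_of_card_eq_prime_pow hE'
        haveI hcr : CharP E r := (RingHom.charP_iff ι ι.injective r).2 inferInstance
        exact CharP.eq E hcr hc2
      have hp3 : p = 3 := by
        have h1 : (72 : ℕ) = 2 ^ 3 * 3 ^ 2 := by norm_num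
        rw [h1] at hp72
        rcases (Nat.Prime.dvd_mul hp).1 hp72 with h | h
        · have := (Nat.prime_dvd_prime_iff_eq hp Nat.prime_two).1 (hp.dvd_of_dvd_pow h)
          exact absurd (this.trans hr2.symm) hpr
        · exact (Nat.prime_dvd_prime_iff_eq hp Nat.prime_three).1 (hp.dvd_of_dvd_pow h)
      subst hp3
      exact hA_field_U32 D hσ₀q hσ₀'q hF hE Dg hDfix hDcop hDnorm
    · exact hA_field_U D hσ₀q hσ₀'q hF hE hn h32' r p hdvd0 Dg hDfix hDcop hDnorm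
  · intro ν _ hνfix hνcop
    exact hB_field_U D hσ₀q hσ₀'q hF hE hn h32 r hq p hτ ν hνfix hνcop

end FieldU8

end Cfsg.Agent.Lib.Helper5.UBal
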