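import Mathlib
import Cfsg.Agent.Lib.Helper5.UBal.FieldU8

set_option autoImplicit false

/-! The centralizer of the standard field automorphism of odd prime order `p` of `PSU_n(q)`:
final form. -/

namespace Cfsg.Agent.Lib.Helper5.UBal

open Matrix Module Cfsg.Agent.Lib.Helper5.PSLCoset Cfsg.Agent.Lib.Helper5.PSUAut
  Cfsg.Agent.Lib.Helper5.UAut Cfsg.Agent.Lib.Helper5.PSUField Cfsg.Agent.Lib.Helper5.SLnAut
  Cfsg.Agent.Lib.Helper5.LBal Cfsg.Agent.Lib.Helper2 Cfsg.Agent.Lib.Helper5.PSpBal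

section FieldU9
variable {n : ℕ} {F : Type*} [Field F] [Fintype F] {q : ℕ}

theorem no_core_field_U (hF : Fintype.card F = q ^ 2) (hn : 3 ≤ n) (h32 : ¬ (n = 3 ∧ q = 2))
    (r : ℕ) [Fact r.Prime] [CharP F r] {f : ℕ} (hq : q = r ^ f) (τ : F ≃+* F) (p : ℕ)
    [Fact p.Prime] (hpr : p ≠ r) (hτ : orderOf τ = p) (hodd : Odd p)
    (hdvd : p ∣ Nat.card ↥(MonoidHom.eqLocus
      (fa τ : MulAut (Cfsg.PSU n F q)).toMonoidHom (MonoidHom.id _)))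
    (A : Subgroup (MulAut (Cfsg.PSU n F q)))
    (hinn : ∀ k : Cfsg.PSU n F q, MulAut.conj k ∈ A)
    (N : Subgroup (MulAut (Cfsg.PSU n F q))) (hN : HasCore p A (fa τ) N) : False := by
  classical
  obtain ⟨σ₀, hσ₀, hσ₀q⟩ := HermDecomp.exists_sigma hF
  obtain ⟨E, hEf, hEc⟩ := exists_field hq hF τ p hτ hodd
  obtain ⟨hdvdf, ι, σ₀', D, hσ₀'q⟩ := exists_FD hq hF τ σ₀ hσ₀ hσ₀q p hτ hodd E hEc
  have hE : Fintype.card E = (r ^ (f / p)) ^ 2 := by rw [hEc, ← pow_mul, mul_comm]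
  have hqq : q = (r ^ (f / p)) ^ p := by rw [hq, ← pow_mul, Nat.div_mul_cancel hdvdf]
  exact no_core_field_U_aux D hσ₀q hσ₀'q hF hE hn h32 r hq p hpr hqq hτ hdvd A hinn N hN

/-- a nontrivial fixed point of the standard field automorphism -/
theorem exists_fixed_ne_one_field (hF : Fintype.card F = q ^ 2) (hn : 3 ≤ n)
    (r : ℕ) [Fact r.Prime] {f : ℕ} (hq : q = r ^ f) (τ : F ≃+* F) (p : ℕ)
    (hτ : orderOf τ = p) (hodd : Odd p) :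
    ∃ k : Cfsg.PSU n F q, k ≠ 1 ∧ (fa τ : MulAut (Cfsg.PSU n F q)) k = k := by
  classical
  obtain ⟨σ₀, hσ₀, hσ₀q⟩ := HermDecomp.exists_sigma hF
  obtain ⟨E, hEf, hEc⟩ := exists_field hq hF τ p hτ hodd
  obtain ⟨hdvdf, ι, σ₀', D, hσ₀'q⟩ := exists_FD hq hF τ σ₀ hσ₀ hσ₀q p hτ hodd E hEc
  have hE : Fintype.card E = (r ^ (f / p)) ^ 2 := by rw [hEc, ← pow_mul, mul_comm]
  obtain ⟨x, hx⟩ := exists_phiU_ne_one D hσ₀q hσ₀'q hF hE hn
  exact ⟨_, hx, fa_phiU D hσ₀q hσ₀'q x⟩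

end FieldU9

end Cfsg.Agent.Lib.Helper5.UBal
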