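import Mathlib
import Cfsg.Agent.Lib.Helper5.UBal.FieldU2
import Cfsg.Agent.Lib.Helper5.PSUAut8

set_option autoImplicit false

/-! The involutory automorphisms of `PSU_n(q)` of graph type: the matrix automorphism, the twisted
embedding of the special linear group over the fixed field, and the fixed points. -/

namespace Cfsg.Agent.Lib.Helper5.UBal

open Matrix Cfsg.Agent.Lib.Helper5.PSLCoset Cfsg.Agent.Lib.Helper5.PSUAut
  Cfsg.Agent.Lib.Helper5.UAut Cfsg.Agent.Lib.Helper5.PSUField Cfsg.Agent.Lib.Helper5.SLnAut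
  Cfsg.Agent.Lib.Helper5.LBal Cfsg.Agent.Lib.Helper5.GraphInv

section GraphV1
variable {n : ℕ} {F : Type*} [Field F] [Fintype F] {q : ℕ} {E : Type*} [Field E]
  {ι : E →+* F} {σ : F ≃+* F}

/-- the automorphism of the special unitary group inducing `gamU σ a` -/
def thetaU (σ : F ≃+* F) (a : ↥(CU n F q)) : MulAut ↥(Cfsg.SU n F q) :=
  resSU ⟨glConj (a : GL (Fin n) F) * fieldAut σ,
    (stab n F q).mul_mem (glConj_mem_stab _ a.2) (fieldAut_mem_stab σ)⟩

theorem thetaU_coe (σ : F ≃+* F) (a : ↥(CU n F q)) (s : ↥(Cfsg.SU n F q)) :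
    (((thetaU σ a s : ↥(Cfsg.SU n F q)) : SpecialLinearGroup (Fin n) F) :
      Matrix (Fin n) (Fin n) F)
      = ((a : GL (Fin n) F) : Matrix (Fin n) (Fin n) F)
        * ((s : SpecialLinearGroup (Fin n) F) : Matrix (Fin n) (Fin n) F).map σ
        * (((a : GL (Fin n) F)⁻¹ : GL (Fin n) F) : Matrix (Fin n) (Fin n) F) := by
  unfold thetaU
  rw [resSU_apply]
  show ((glConj (a : GL (Fin n) F) (fieldAut σ s.1) : SpecialLinearGroup (Fin n) F) :
    Matrix (Fin n) (Fin n) F) = _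
  rw [glConj_coe, fieldAut_coe]

theorem thetaU_mul (σ : F ≃+* F) (a : ↥(CU n F q)) (s : ↥(Cfsg.SU n F q)) :
    (((thetaU σ a s : ↥(Cfsg.SU n F q)) : SpecialLinearGroup (Fin n) F) :
      Matrix (Fin n) (Fin n) F) * ((a : GL (Fin n) F) : Matrix (Fin n) (Fin n) F)
      = ((a : GL (Fin n) F) : Matrix (Fin n) (Fin n) F)
        * ((s : SpecialLinearGroup (Fin n) F) : Matrix (Fin n) (Fin n) F).map σ := by
  rw [thetaU_coe, Matrix.mul_assoc, ← Units.val_mul, inv_mul_cancel, Units.val_one, Matrix.mul_one]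

theorem gamU_mk (σ : F ≃+* F) (a : ↥(CU n F q)) (s : ↥(Cfsg.SU n F q)) :
    gamU σ a (QuotientGroup.mk s) = (QuotientGroup.mk (thetaU σ a s) : Cfsg.PSU n F q) := rfl

/-- the data of an involutory automorphism of graph type -/
structure GD (ι : E →+* F) (σ : F ≃+* F) (q : ℕ) (a : ↥(CU n F q)) (P : GL (Fin n) F) (κ : F)
    (M₀ : Matrix (Fin n) (Fin n) E) : Prop where
  desc : Desc ι σ
  sq : ∀ x : F, σ x = x ^ q
  kne : κ ≠ 0
  aP : ((a : GL (Fin n) F) : Matrix (Fin n) (Fin n) F) * (P : Matrix (Fin n) (Fin n) F).map σ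
    = (P : Matrix (Fin n) (Fin n) F)
  PM : (P : Matrix (Fin n) (Fin n) F)ᵀ * (P : Matrix (Fin n) (Fin n) F).map σ = κ • M₀.map ι

/-- the twisted embedding of the special linear group over the fixed field -/
noncomputable def psiG (ι : E →+* F) (P : GL (Fin n) F) :
    SpecialLinearGroup (Fin n) E →* SpecialLinearGroup (Fin n) F :=
  (glConj P).toMonoidHom.comp (Matrix.SpecialLinearGroup.map ι)

theorem psiG_coe (ι : E →+* F) (P : GL (Fin n) F) (s₀ : SpecialLinearGroup (Fin n) E) :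
    ((psiG ι P s₀ : SpecialLinearGroup (Fin n) F) : Matrix (Fin n) (Fin n) F)
      = (P : Matrix (Fin n) (Fin n) F) * (s₀ : Matrix (Fin n) (Fin n) E).map ι
        * ((P⁻¹ : GL (Fin n) F) : Matrix (Fin n) (Fin n) F) := by
  show ((glConj P (Matrix.SpecialLinearGroup.map ι s₀) : SpecialLinearGroup (Fin n) F) :
    Matrix (Fin n) (Fin n) F) = _
  rw [glConj_coe]
  rfl

theorem psiG_mul (ι : E →+* F) (P : GL (Fin n) F) (s₀ : SpecialLinearGroup (Fin n) E) :
    ((psiG ι P s₀ : SpecialLinearGroup (Fin n) F) : Matrix (Fin n) (Fin n) F)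
      * (P : Matrix (Fin n) (Fin n) F)
      = (P : Matrix (Fin n) (Fin n) F) * (s₀ : Matrix (Fin n) (Fin n) E).map ι := by
  rw [psiG_coe, Matrix.mul_assoc, ← Units.val_mul, inv_mul_cancel, Units.val_one, Matrix.mul_one]

theorem psiG_injective (ι : E →+* F) (P : GL (Fin n) F) :
    Function.Injective (psiG (n := n) ι P) := by
  intro s t hst
  apply Subtype.ext
  have h1 := congrArg (fun s : SpecialLinearGroup (Fin n) F =>
    (s : Matrix (Fin n) (Fin n) F) * (P : Matrix (Fin n) (Fin n) F)) hst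
  beta_reduce at h1
  rw [psiG_mul, psiG_mul] at h1
  exact Matrix.map_injective ι.injective ((Units.mul_right_inj P).1 h1)

variable {a : ↥(CU n F q)} {P : GL (Fin n) F} {κ : F} {M₀ : Matrix (Fin n) (Fin n) E}

theorem gram_psiG (D : GD ι σ q a P κ M₀) (s₀ : SpecialLinearGroup (Fin n) E) :
    (P : Matrix (Fin n) (Fin n) F)ᵀ
      * (((psiG ι P s₀ : SpecialLinearGroup (Fin n) F) : Matrix (Fin n) (Fin n) F)ᵀ
        * ((psiG ι P s₀ : SpecialLinearGroup (Fin n) F) : Matrix (Fin n) (Fin n) F).map σ)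
      * (P : Matrix (Fin n) (Fin n) F).map σ
      = κ • ((s₀ : Matrix (Fin n) (Fin n) E)ᵀ * M₀ * (s₀ : Matrix (Fin n) (Fin n) E)).map ι := by
  rw [← gram_mul', psiG_mul, gram_mul, D.PM, D.desc.map_iota, Matrix.map_mul, Matrix.map_mul,
    Matrix.transpose_map, Matrix.mul_smul, Matrix.smul_mul]

/-- the image of a matrix is unitary iff the matrix is an isometry of the form `M₀` -/
theorem psiG_mem_SU_iff (D : GD ι σ q a P κ M₀) (s₀ : SpecialLinearGroup (Fin n) E) :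
    psiG ι P s₀ ∈ Cfsg.SU n F q ↔
      (s₀ : Matrix (Fin n) (Fin n) E)ᵀ * M₀ * (s₀ : Matrix (Fin n) (Fin n) E) = M₀ := by
  rw [mem_SU_iff_isU D.sq]
  unfold IsU
  have hg := gram_psiG D s₀
  constructor
  · intro h
    rw [h, Matrix.mul_one, D.PM] at hg
    have h1 := smul_right_injective (Matrix (Fin n) (Fin n) F) D.kne hg
    exact (map_iota_inj h1).symm
  · intro h
    rw [h, ← D.PM] at hg
    apply cancel_both (tauGL P)⁻¹ (Matrix.GeneralLinearGroup.map (σ : F →+* F) P)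
    rw [tauGL_inv_coe, mapGL_coe, hg, Matrix.mul_one]

/-- the images of isometries are fixed -/
theorem thetaU_psiG (D : GD ι σ q a P κ M₀) (s₀ : SpecialLinearGroup (Fin n) E)
    (h : psiG ι P s₀ ∈ Cfsg.SU n F q) :
    thetaU σ a ⟨psiG ι P s₀, h⟩ = ⟨psiG ι P s₀, h⟩ := by
  apply Subtype.ext
  apply Subtype.ext
  apply (Units.mul_left_inj (a : GL (Fin n) F)).1
  rw [thetaU_mul]
  show ((a : GL (Fin n) F) : Matrix (Fin n) (Fin n) F)
      * ((psiG ι P s₀ : SpecialLinearGroup (Fin n) F) : Matrix (Fin n) (Fin n) F).map σ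
    = ((psiG ι P s₀ : SpecialLinearGroup (Fin n) F) : Matrix (Fin n) (Fin n) F)
      * ((a : GL (Fin n) F) : Matrix (Fin n) (Fin n) F)
  apply (Units.mul_left_inj (Matrix.GeneralLinearGroup.map (σ : F →+* F) P)).1
  rw [mapGL_coe, Matrix.mul_assoc, ← Matrix.map_mul, psiG_mul, Matrix.map_mul, D.desc.map_iota,
    ← Matrix.mul_assoc, D.aP, Matrix.mul_assoc, D.aP, psiG_mul]

/-- fixed points are images of matrices over the fixed field -/
theorem exists_psiG_of_fixed (D : GD ι σ q a P κ M₀) (s : ↥(Cfsg.SU n F q))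
    (hs : thetaU σ a s = s) :
    ∃ s₀ : SpecialLinearGroup (Fin n) E, psiG ι P s₀ = (s : SpecialLinearGroup (Fin n) F) := by
  obtain ⟨X, hX⟩ : ∃ X : Matrix (Fin n) (Fin n) F,
      X = ((s : SpecialLinearGroup (Fin n) F) : Matrix (Fin n) (Fin n) F) := ⟨_, rfl⟩
  have h1 := thetaU_mul σ a s
  rw [hs, ← hX] at h1
  obtain ⟨K, hK⟩ : ∃ K : Matrix (Fin n) (Fin n) F,
      K = ((P⁻¹ : GL (Fin n) F) : Matrix (Fin n) (Fin n) F) * X
        * (P : Matrix (Fin n) (Fin n) F) := ⟨_, rfl⟩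
  have hPK : (P : Matrix (Fin n) (Fin n) F) * K = X * (P : Matrix (Fin n) (Fin n) F) := by
    rw [hK, ← Matrix.mul_assoc, ← Matrix.mul_assoc, ← Units.val_mul, mul_inv_cancel,
      Units.val_one, Matrix.one_mul]
  have hKσ : K.map σ = K := by
    apply (Units.mul_right_inj P).1
    conv_lhs => rw [← D.aP]
    rw [Matrix.mul_assoc, ← Matrix.map_mul, hPK, Matrix.map_mul, ← Matrix.mul_assoc, ← h1,
      Matrix.mul_assoc, D.aP]
  obtain ⟨K₀, hK₀⟩ := D.desc.exists_map K hKσ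
  have hXdet : X.det = 1 := by
    rw [hX]
    exact (s : SpecialLinearGroup (Fin n) F).2
  have hKdet : K.det = 1 := by
    rw [hK, Matrix.det_mul, Matrix.det_mul, hXdet, mul_one, ← Matrix.det_mul, ← Units.val_mul,
      inv_mul_cancel, Units.val_one, Matrix.det_one]
  have hdet : K₀.det = 1 := by
    apply ι.injective
    rw [map_one, RingHom.map_det, RingHom.mapMatrix_apply, ← hK₀]
    exact hKdet
  obtain ⟨s₀, hs₀⟩ : ∃ s₀ : SpecialLinearGroup (Fin n) E,
      (s₀ : Matrix (Fin n) (Fin n) E) = K₀ := ⟨⟨K₀, hdet⟩, rfl⟩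
  refine ⟨s₀, ?_⟩
  apply Subtype.ext
  rw [psiG_coe, hs₀, ← hK₀, hPK, Matrix.mul_assoc, ← Units.val_mul, mul_inv_cancel, Units.val_one,
    Matrix.mul_one, hX]

theorem a_mul_a_map (D : GD ι σ q a P κ M₀) :
    ((a : GL (Fin n) F) : Matrix (Fin n) (Fin n) F)
      * ((a : GL (Fin n) F) : Matrix (Fin n) (Fin n) F).map σ = 1 := by
  apply (Units.mul_left_inj P).1
  have h1 : ((a : GL (Fin n) F) : Matrix (Fin n) (Fin n) F).map σ
      * (P : Matrix (Fin n) (Fin n) F) = (P : Matrix (Fin n) (Fin n) F).map σ := by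
    have h2 := congrArg (fun M : Matrix (Fin n) (Fin n) F => M.map σ) D.aP
    beta_reduce at h2
    rw [Matrix.map_mul, D.desc.map_map] at h2
    exact h2
  rw [Matrix.mul_assoc, h1, D.aP, Matrix.one_mul]

/-- the matrix automorphism is an involution -/
theorem thetaU_invol (D : GD ι σ q a P κ M₀) (s : ↥(Cfsg.SU n F q)) :
    thetaU σ a (thetaU σ a s) = s := by
  apply Subtype.ext
  apply Subtype.ext
  have h1 := thetaU_mul σ a s
  have h2 := thetaU_mul σ a (thetaU σ a s)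
  obtain ⟨X, hX⟩ : ∃ X : Matrix (Fin n) (Fin n) F,
      X = ((s : SpecialLinearGroup (Fin n) F) : Matrix (Fin n) (Fin n) F) := ⟨_, rfl⟩
  obtain ⟨Y, hY⟩ : ∃ Y : Matrix (Fin n) (Fin n) F,
      Y = (((thetaU σ a s : ↥(Cfsg.SU n F q)) : SpecialLinearGroup (Fin n) F) :
        Matrix (Fin n) (Fin n) F) := ⟨_, rfl⟩
  obtain ⟨Z, hZ⟩ : ∃ Z : Matrix (Fin n) (Fin n) F,
      Z = (((thetaU σ a (thetaU σ a s) : ↥(Cfsg.SU n F q)) : SpecialLinearGroup (Fin n) F) :
        Matrix (Fin n) (Fin n) F) := ⟨_, rfl⟩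
  rw [← hX, ← hY] at h1
  rw [← hY, ← hZ] at h2
  show (((thetaU σ a (thetaU σ a s) : ↥(Cfsg.SU n F q)) : SpecialLinearGroup (Fin n) F) :
        Matrix (Fin n) (Fin n) F) = ((s : SpecialLinearGroup (Fin n) F) : Matrix (Fin n) (Fin n) F)
  rw [← hZ, ← hX]
  have h3 : Z * (((a : GL (Fin n) F) : Matrix (Fin n) (Fin n) F)
      * ((a : GL (Fin n) F) : Matrix (Fin n) (Fin n) F).map σ)
      = (((a : GL (Fin n) F) : Matrix (Fin n) (Fin n) F)
      * ((a : GL (Fin n) F) : Matrix (Fin n) (Fin n) F).map σ) * X := by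
    rw [← Matrix.mul_assoc, h2, Matrix.mul_assoc, ← Matrix.map_mul, h1, Matrix.map_mul,
      D.desc.map_map, Matrix.mul_assoc]
  rw [a_mul_a_map D, Matrix.mul_one, Matrix.one_mul] at h3
  exact h3

end GraphV1

end Cfsg.Agent.Lib.Helper5.UBal
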