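import Mathlib
import Cfsg.Agent.Lib.Helper5.LBal.Lift

set_option autoImplicit false

/-! From a group to its central quotient: a subgroup of odd order of fixed points of an
involutory automorphism lifts to a group of fixed elements. -/

namespace Cfsg.Agent.Lib.Helper5.UBal

open Cfsg.Agent.Lib.Helper5.LBal

section Pipe
variable {G : Type*} [Group G] [Finite G]

set_option maxHeartbeats 800000 in
theorem hA_of_nc_gen (θ : MulAut G) (hθ : ∀ s, θ (θ s) = s)
    (β : MulAut (G ⧸ Subgroup.center G))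
    (hβ : ∀ s : G, β (QuotientGroup.mk s) = QuotientGroup.mk (θ s))
    (Lt : Set G) (hLt : ∀ l ∈ Lt, θ l = l)
    (hnc : ∀ H : Subgroup G, (∀ h ∈ H, θ h = h) → Odd (Nat.card H) →
      (∀ l ∈ Lt, ∀ h ∈ H, l * h * l⁻¹ ∈ H) → ∀ h ∈ H, h ∈ Subgroup.center G)
    (D : Subgroup (G ⧸ Subgroup.center G)) (hDfix : ∀ d ∈ D, β d = d)
    (hDodd : (Nat.card D).Coprime 2)
    (hDnorm : ∀ l ∈ Lt, ∀ d ∈ D,
      (QuotientGroup.mk l : G ⧸ Subgroup.center G) * d * (QuotientGroup.mk l)⁻¹ ∈ D) :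
    D = ⊥ := by
  classical
  have hodd : Odd (Nat.card D) := Nat.coprime_two_right.1 hDodd
  set Gθ : Subgroup G := MonoidHom.eqLocus θ.toMonoidHom (MonoidHom.id _) with hGθ
  have hmemG : ∀ s, s ∈ Gθ ↔ θ s = s := fun s => Iff.rfl
  set π' : ↥Gθ →* G ⧸ Subgroup.center G :=
    (QuotientGroup.mk' (Subgroup.center G)).comp Gθ.subtype with hπ'
  have hπ'app : ∀ s : ↥Gθ, π' s = (QuotientGroup.mk (s : G) : G ⧸ Subgroup.center G) :=
    fun s => rfl
  have hker : π'.ker ≤ Subgroup.center ↥Gθ := by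
    intro z hz
    rw [MonoidHom.mem_ker, hπ'app, QuotientGroup.eq_one_iff] at hz
    rw [Subgroup.mem_center_iff]
    intro g
    apply Subtype.ext
    rw [Subgroup.coe_mul, Subgroup.coe_mul]
    exact Subgroup.mem_center_iff.1 hz g
  have hrange : D ≤ π'.range := by
    intro d hd
    obtain ⟨s, rfl⟩ := QuotientGroup.mk_surjective d
    have h1 := hDfix _ hd
    rw [hβ] at h1
    have h1' := QuotientGroup.eq.1 h1
    obtain ⟨z, hz⟩ : ∃ z, z = θ s * s⁻¹ := ⟨_, rfl⟩
    have hzc : z ∈ Subgroup.center G := by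
      have h2 : z = s * ((θ s)⁻¹ * s)⁻¹ * s⁻¹ := by rw [hz]; group
      rw [h2]
      exact (inferInstance : (Subgroup.center G).Normal).conj_mem _
        (Subgroup.inv_mem _ h1') s
    have hzs : θ s = z * s := by rw [hz]; group
    have hord : Odd (orderOf (QuotientGroup.mk s : G ⧸ Subgroup.center G)) := by
      have h3 : orderOf (⟨QuotientGroup.mk s, hd⟩ : ↥D) ∣ Nat.card D := orderOf_dvd_natCard _
      rw [← Subgroup.orderOf_coe] at h3
      exact Odd.of_dvd_nat hodd h3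
    have hwc : s ^ orderOf (QuotientGroup.mk s : G ⧸ Subgroup.center G)
        ∈ Subgroup.center G := by
      rw [← QuotientGroup.eq_one_iff, QuotientGroup.mk_pow, pow_orderOf_eq_one]
    obtain ⟨ζ, hζc, hζ⟩ := fix_lift θ hθ s z (fun g => (Subgroup.mem_center_iff.1 hzc g).symm) hzs
      (orderOf (QuotientGroup.mk s : G ⧸ Subgroup.center G)) hord _
      (fun g => (Subgroup.mem_center_iff.1 hwc g).symm) rfl
    refine ⟨⟨ζ * s, (hmemG _).2 hζ⟩, ?_⟩
    rw [hπ'app]
    show (QuotientGroup.mk (ζ * s) : G ⧸ Subgroup.center G) = QuotientGroup.mk s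
    rw [QuotientGroup.mk_mul]
    have : (QuotientGroup.mk ζ : G ⧸ Subgroup.center G) = 1 := by
      rw [QuotientGroup.eq_one_iff, Subgroup.mem_center_iff]
      intro g
      exact (hζc g).symm
    rw [this, one_mul]
  obtain ⟨H', M, hH'odd, hH'map, hH'mem⟩ := exists_odd_lift' π' hker D hrange hodd
  have hall := hnc (H'.map Gθ.subtype)
    (by
      rintro _ ⟨h, -, rfl⟩
      exact (hmemG _).1 h.2)
    (by
      rw [Subgroup.card_map_of_injective Gθ.subtype_injective]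
      exact hH'odd)
    (by
      rintro l hl _ ⟨h, hh, rfl⟩
      have hlG : l ∈ Gθ := (hmemG l).2 (hLt l hl)
      refine ⟨(⟨l, hlG⟩ : ↥Gθ) * h * (⟨l, hlG⟩ : ↥Gθ)⁻¹, ?_, rfl⟩
      obtain ⟨h1, h2⟩ := (hH'mem h).1 hh
      refine (hH'mem _).2 ⟨?_, ?_⟩
      · rw [map_mul, map_mul, map_inv]
        exact hDnorm l hl _ h1
      · rw [conj_pow, h2, mul_one, mul_inv_cancel])
  rw [← hH'map, eq_bot_iff]
  rintro _ ⟨h, hh, rfl⟩
  rw [Subgroup.mem_bot, hπ'app, QuotientGroup.eq_one_iff]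
  exact hall _ ⟨h, hh, rfl⟩

end Pipe

end Cfsg.Agent.Lib.Helper5.UBal
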