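import Mathlib
import Cfsg.Agent.Lib.Helper5.UBal.GraphV1
import Cfsg.Agent.Lib.Helper5.UBal.Pipe
import Cfsg.Agent.Lib.Helper5.UBal.FieldU3

set_option autoImplicit false

/-! Involutory automorphisms of `PSU_n(q)` of graph type: subgroups of odd order of fixed points
normalized by the image of a set of isometries over the fixed field. -/

namespace Cfsg.Agent.Lib.Helper5.UBal

open Matrix Cfsg.Agent.Lib.Helper5.PSLCoset Cfsg.Agent.Lib.Helper5.PSUAut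
  Cfsg.Agent.Lib.Helper5.UAut Cfsg.Agent.Lib.Helper5.PSUField Cfsg.Agent.Lib.Helper5.SLnAut
  Cfsg.Agent.Lib.Helper5.LBal Cfsg.Agent.Lib.Helper5.GraphInv

section GraphV2
variable {n : ℕ} {F : Type*} [Field F] [Fintype F] {q : ℕ} {E : Type*} [Field E]
  {ι : E →+* F} {σ : F ≃+* F}

/-- the image in the special unitary group of a set of matrices over the fixed field -/
def LtU (ι : E →+* F) (P : GL (Fin n) F) (q : ℕ) (S₀ : Set (SpecialLinearGroup (Fin n) E)) :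
    Set ↥(Cfsg.SU n F q) :=
  {l | ∃ l₀ ∈ S₀, psiG ι P l₀ = (l : SpecialLinearGroup (Fin n) F)}

variable {a : ↥(CU n F q)} {P : GL (Fin n) F} {κ : F} {M₀ : Matrix (Fin n) (Fin n) E}

theorem LtU_fix (D : GD ι σ q a P κ M₀) (S₀ : Set (SpecialLinearGroup (Fin n) E))
    (l : ↥(Cfsg.SU n F q)) (hl : l ∈ LtU ι P q S₀) : thetaU σ a l = l := by
  obtain ⟨l₀, -, hl₀⟩ := hl
  have h1 : psiG ι P l₀ ∈ Cfsg.SU n F q := by
    rw [hl₀]
    exact l.2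
  have h2 := thetaU_psiG D l₀ h1
  have h3 : (⟨psiG ι P l₀, h1⟩ : ↥(Cfsg.SU n F q)) = l := Subtype.ext hl₀
  rw [h3] at h2
  exact h2

/-- the image of a central matrix is central -/
theorem psiG_center (hn : 3 ≤ n) (s₀ : SpecialLinearGroup (Fin n) E)
    (hs₀ : s₀ ∈ Subgroup.center (SpecialLinearGroup (Fin n) E)) (h : ↥(Cfsg.SU n F q))
    (hh : psiG ι P s₀ = (h : SpecialLinearGroup (Fin n) F)) :
    h ∈ Subgroup.center ↥(Cfsg.SU n F q) := by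
  rw [Matrix.SpecialLinearGroup.mem_center_iff] at hs₀
  obtain ⟨c, -, hc⟩ := hs₀
  apply mem_center_of_scalar h (ι c)
  rw [← hh, psiG_coe, ← hc, Matrix.scalar_apply, ← Matrix.smul_one_eq_diagonal, map_smul_one,
    Matrix.mul_smul, Matrix.mul_one, Matrix.smul_mul, ← Units.val_mul, mul_inv_cancel,
    Units.val_one]

set_option maxHeartbeats 800000 in
theorem hA_graph_U (D : GD ι σ q a P κ M₀) (hn : 3 ≤ n)
    (S₀ : Set (SpecialLinearGroup (Fin n) E))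
    (hS₀ : ∀ l₀ ∈ S₀, (l₀ : Matrix (Fin n) (Fin n) E)ᵀ * M₀ * (l₀ : Matrix (Fin n) (Fin n) E)
      = M₀)
    (hnc₀ : ∀ H₀ : Subgroup (SpecialLinearGroup (Fin n) E),
      (∀ h ∈ H₀, (h : Matrix (Fin n) (Fin n) E)ᵀ * M₀ * (h : Matrix (Fin n) (Fin n) E) = M₀) →
      Odd (Nat.card H₀) → (∀ l ∈ S₀, ∀ h ∈ H₀, l * h * l⁻¹ ∈ H₀) → ∀ h ∈ H₀, piN h = 1)
    (Dg : Subgroup (Cfsg.PSU n F q)) (hDfix : ∀ d ∈ Dg, gamU σ a d = d)
    (hDcop : (Nat.card Dg).Coprime 2)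
    (hDnorm : ∀ l ∈ LtU ι P q S₀, ∀ d ∈ Dg,
      (QuotientGroup.mk l : Cfsg.PSU n F q) * d * (QuotientGroup.mk l)⁻¹ ∈ Dg) : Dg = ⊥ := by
  classical
  haveI := finite_SU (n := n) (F := F) (q := q)
  refine hA_of_nc_gen (G := ↥(Cfsg.SU n F q)) (thetaU σ a) (thetaU_invol D) (gamU σ a)
    (gamU_mk σ a) (LtU ι P q S₀) (LtU_fix D S₀) ?_ Dg hDfix hDcop hDnorm
  intro H hHfix hHodd hHnorm
  obtain ⟨H₀, hH₀⟩ : ∃ H₀ : Subgroup (SpecialLinearGroup (Fin n) E),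
      H₀ = (H.map (Cfsg.SU n F q).subtype).comap (psiG ι P) := ⟨_, rfl⟩
  have hmem : ∀ h₀, h₀ ∈ H₀ ↔ ∃ h ∈ H, (h : SpecialLinearGroup (Fin n) F) = psiG ι P h₀ := by
    intro h₀
    rw [hH₀, Subgroup.mem_comap, Subgroup.mem_map]
    rfl
  have hle : H.map (Cfsg.SU n F q).subtype ≤ (psiG ι P).range := by
    rintro _ ⟨h, hh, rfl⟩
    obtain ⟨s₀, hs₀⟩ := exists_psiG_of_fixed D h (hHfix h hh)
    exact ⟨s₀, hs₀⟩
  have hcard : Nat.card H₀ = Nat.card H := by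
    rw [← Subgroup.card_map_of_injective (psiG_injective ι P), hH₀,
      Subgroup.map_comap_eq_self hle,
      Subgroup.card_map_of_injective (Subgroup.subtype_injective _)]
  have hall := hnc₀ H₀
    (by
      intro h₀ hh₀
      obtain ⟨h, -, hh⟩ := (hmem h₀).1 hh₀
      apply (psiG_mem_SU_iff D h₀).1
      rw [← hh]
      exact h.2)
    (by rw [hcard]; exact hHodd)
    (by
      intro l hl h₀ hh₀
      obtain ⟨h, hhH, hh⟩ := (hmem h₀).1 hh₀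
      have hlSU : psiG ι P l ∈ Cfsg.SU n F q := (psiG_mem_SU_iff D l).2 (hS₀ l hl)
      have h1 := hHnorm ⟨psiG ι P l, hlSU⟩ ⟨l, hl, rfl⟩ h hhH
      refine (hmem _).2 ⟨_, h1, ?_⟩
      rw [map_mul, map_mul, map_inv, ← hh]
      rfl)
  intro h hh
  obtain ⟨s₀, hs₀⟩ := exists_psiG_of_fixed D h (hHfix h hh)
  have h1 : s₀ ∈ H₀ := (hmem s₀).2 ⟨h, hh, hs₀.symm⟩
  exact psiG_center hn s₀ ((piN_eq_one_iff s₀).1 (hall s₀ h1)) h hs₀

end GraphV2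

end Cfsg.Agent.Lib.Helper5.UBal
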