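import Mathlib
import Cfsg.Agent.Lib.Helper5.UBal.GraphV2
import Cfsg.Agent.Lib.Helper5.UBal.FieldU6
import Cfsg.Agent.Lib.Helper5.PSpBal5
import Cfsg.Agent.Lib.Helper5.UAut15

set_option autoImplicit false

/-! Involutory automorphisms of `PSU_n(q)` of graph type: automorphisms of odd order fixing the
image of a rigid set of isometries over the fixed field are trivial. -/

namespace Cfsg.Agent.Lib.Helper5.UBal

open Matrix Cfsg.Agent.Lib.Helper5.PSLCoset Cfsg.Agent.Lib.Helper5.PSUAut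
  Cfsg.Agent.Lib.Helper5.UAut Cfsg.Agent.Lib.Helper5.PSUField Cfsg.Agent.Lib.Helper5.SLnAut
  Cfsg.Agent.Lib.Helper5.LBal Cfsg.Agent.Lib.Helper5.GraphInv Cfsg.Agent.Lib.Helper5.PSpBal

section GraphV3
variable {n : ℕ} {F : Type*} [Field F] [Fintype F] {q : ℕ} {E : Type*} [Field E]
  {ι : E →+* F} {σ : F ≃+* F}

theorem iota_single (ι : E →+* F) (k : Fin n) :
    (fun i => ι ((Pi.single k (1 : E) : Fin n → E) i)) = (Pi.single k (1 : F) : Fin n → F) := by
  funext i'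
  by_cases hik : i' = k
  · subst hik
    simp
  · simp [Pi.single_eq_of_ne hik]

theorem gamU_sq {a : ↥(CU n F q)} {P : GL (Fin n) F} {κ : F} {M₀ : Matrix (Fin n) (Fin n) E}
    (D : GD ι σ q a P κ M₀) : (gamU σ a) ^ 2 = 1 := by
  apply MulEquiv.ext
  intro x
  obtain ⟨s, rfl⟩ := QuotientGroup.mk_surjective x
  rw [pow_two, MulAut.mul_apply, gamU_mk, gamU_mk, thetaU_invol D]
  rfl

variable {a : ↥(CU n F q)} {P : GL (Fin n) F} {κ : F} {M₀ : Matrix (Fin n) (Fin n) E}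

set_option maxHeartbeats 1600000 in
theorem hB_graph_U (D : GD ι σ q a P κ M₀) (hF : Fintype.card F = q ^ 2) (hn : 3 ≤ n)
    (h32 : ¬ (n = 3 ∧ q = 2)) (r : ℕ) [Fact r.Prime] [CharP F r] {f : ℕ} (hq : q = r ^ f)
    (hσ : orderOf σ = 2) (S₀ : Set (SpecialLinearGroup (Fin n) E))
    (hS₀ : ∀ l₀ ∈ S₀, (l₀ : Matrix (Fin n) (Fin n) E)ᵀ * M₀ * (l₀ : Matrix (Fin n) (Fin n) E)
      = M₀)
    (hS₀r : ∀ l₀ ∈ S₀, l₀ ^ r = 1)
    (hrig : ∀ (τ' : F ≃+* F) (g : (Fin n → F) → (Fin n → F)),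
      (∀ x y, g (x + y) = g x + g y) → (∀ (c : F) (x : Fin n → F), g (c • x) = τ' c • g x) →
      (∀ x, g x = 0 → x = 0) →
      (∀ l₀ ∈ S₀, ∀ x, g ((l₀ : Matrix (Fin n) (Fin n) E).map ι *ᵥ x)
        = (l₀ : Matrix (Fin n) (Fin n) E).map ι *ᵥ g x) →
      (∀ c : E, τ' (ι c) = ι c) ∧ ∃ κ' : F, ∀ w : Fin n → E,
        g (fun i => ι (w i)) = κ' • (fun i => ι (w i)))
    (ν : MulAut (Cfsg.PSU n F q))
    (hfix : ∀ l ∈ LtU ι P q S₀, ν (QuotientGroup.mk l) = QuotientGroup.mk l)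
    (hcop : (orderOf ν).Coprime 2) : ν = 1 := by
  classical
  obtain ⟨h, τ', rfl⟩ := aut_PSU hq hF hn h32 ν
  obtain ⟨Pm, hPm⟩ : ∃ Pm : Matrix (Fin n) (Fin n) F, Pm = (P : Matrix (Fin n) (Fin n) F) :=
    ⟨_, rfl⟩
  obtain ⟨Pi', hPi'⟩ : ∃ Pi' : Matrix (Fin n) (Fin n) F,
      Pi' = ((P⁻¹ : GL (Fin n) F) : Matrix (Fin n) (Fin n) F) := ⟨_, rfl⟩
  have hPP : Pm * Pi' = 1 := by
    rw [hPm, hPi', ← Units.val_mul, mul_inv_cancel, Units.val_one]
  have hPP' : Pi' * Pm = 1 := by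
    rw [hPm, hPi', ← Units.val_mul, inv_mul_cancel, Units.val_one]
  obtain ⟨g, hg⟩ : ∃ g : (Fin n → F) → (Fin n → F),
      ∀ y, g y = Pi' *ᵥ vsemi (h : GL (Fin n) F) τ' (Pm *ᵥ y) := ⟨_, fun y => rfl⟩
  obtain ⟨hτ', κ', hκ'⟩ := hrig τ' g
    (by
      intro x y
      rw [hg, hg, hg, Matrix.mulVec_add, vsemi_add, Matrix.mulVec_add])
    (by
      intro c x
      rw [hg, hg, Matrix.mulVec_smul, vsemi_smul, Matrix.mulVec_smul])
    (by
      intro x hx
      rw [hg] at hx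
      have h1 := congrArg (fun w => Pm *ᵥ w) hx
      beta_reduce at h1
      rw [Matrix.mulVec_mulVec, hPP, Matrix.one_mulVec, Matrix.mulVec_zero] at h1
      have h2 := vsemi_inj _ _ _ h1
      have h3 := congrArg (fun w => Pi' *ᵥ w) h2
      beta_reduce at h3
      rw [Matrix.mulVec_mulVec, hPP', Matrix.one_mulVec, Matrix.mulVec_zero] at h3
      exact h3)
    (by
      intro l₀ hl₀ x
      have hlSU : psiG ι P l₀ ∈ Cfsg.SU n F q := (psiG_mem_SU_iff D l₀).2 (hS₀ l₀ hl₀)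
      obtain ⟨l, hl⟩ : ∃ l : ↥(Cfsg.SU n F q), l = ⟨psiG ι P l₀, hlSU⟩ := ⟨_, rfl⟩
      have hlL : l ∈ LtU ι P q S₀ := ⟨l₀, hl₀, by rw [hl]⟩
      have hlr : l ^ r = 1 := by
        apply Subtype.ext
        rw [Subgroup.coe_pow, Subgroup.coe_one, hl]
        show (psiG ι P l₀) ^ r = 1
        rw [← map_pow, hS₀r l₀ hl₀, map_one]
      obtain ⟨L, hL⟩ : ∃ L : Matrix (Fin n) (Fin n) F,
          L = (l₀ : Matrix (Fin n) (Fin n) E).map ι := ⟨_, rfl⟩
      obtain ⟨X, hX⟩ : ∃ X : Matrix (Fin n) (Fin n) F,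
          X = ((l : SpecialLinearGroup (Fin n) F) : Matrix (Fin n) (Fin n) F) := ⟨_, rfl⟩
      have hXP : X * Pm = Pm * L := by
        rw [hX, hl, hPm, hL]
        exact psiG_mul ι P l₀
      have hPX : Pi' * X = L * Pi' := by
        calc Pi' * X = Pi' * (X * Pm) * Pi' := by
              rw [Matrix.mul_assoc, Matrix.mul_assoc, hPP, Matrix.mul_one]
          _ = L * Pi' := by
              rw [hXP, ← Matrix.mul_assoc, hPP', Matrix.one_mul]
      have h1 := vsemi_comm_of_fix_U hF hn r h τ' l hlr (hfix l hlL) (Pm *ᵥ x)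
      rw [← hX] at h1
      rw [← hL, hg, hg, Matrix.mulVec_mulVec, ← hXP, ← Matrix.mulVec_mulVec, h1,
        Matrix.mulVec_mulVec, hPX, ← Matrix.mulVec_mulVec])
  -- the matrix identity
  have hmat : ((h : GL (Fin n) F) : Matrix (Fin n) (Fin n) F) * Pm.map τ' = κ' • Pm := by
    ext i k
    have h1 := hκ' (Pi.single k 1)
    rw [iota_single, hg] at h1
    have h2 := congrArg (fun w => Pm *ᵥ w) h1
    beta_reduce at h2
    rw [Matrix.mulVec_mulVec, hPP, Matrix.one_mulVec, Matrix.mulVec_smul,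
      Matrix.mulVec_single_one] at h2
    have h3 := congrFun h2 i
    unfold vsemi at h3
    rw [Pi.smul_apply, Matrix.col_apply] at h3
    rw [Matrix.smul_apply, ← h3, Matrix.mul_apply]
    rfl
  have hκ0 : κ' ≠ 0 := by
    intro h0
    have h1 := hκ' (Pi.single ⟨0, by omega⟩ 1)
    rw [h0, zero_smul, iota_single, hg] at h1
    have h2 := congrArg (fun w => Pm *ᵥ w) h1
    beta_reduce at h2
    rw [Matrix.mulVec_mulVec, hPP, Matrix.one_mulVec, Matrix.mulVec_zero] at h2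
    have h3 := vsemi_inj _ _ _ h2
    have h4 := congrArg (fun w => Pi' *ᵥ w) h3
    beta_reduce at h4
    rw [Matrix.mulVec_mulVec, hPP', Matrix.one_mulVec, Matrix.mulVec_zero] at h4
    have h5 := congrFun h4 ⟨0, by omega⟩
    simp at h5
  have hτz : τ' ∈ Subgroup.zpowers σ := by
    apply mem_zpowers_of_fixes σ τ'
    intro c hc
    obtain ⟨c₀, rfl⟩ := (D.desc.fixed c).1 hc
    exact hτ' c₀
  have hτ2 : τ' = 1 ∨ τ' = σ := by
    obtain ⟨j, hj⟩ := Subgroup.mem_zpowers_iff.1 hτz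
    have hσ2 : σ ^ (2 : ℤ) = 1 := by
      have h1 := pow_orderOf_eq_one σ
      rw [hσ] at h1
      exact_mod_cast h1
    rcases Int.emod_two_eq_zero_or_one j with h0 | h1
    · left
      rw [← hj, ← Int.mul_ediv_add_emod j 2, h0, add_zero, _root_.zpow_mul, hσ2, _root_.one_zpow]
    · right
      rw [← hj]
      conv_lhs => rw [← Int.mul_ediv_add_emod j 2, h1, _root_.zpow_add, _root_.zpow_mul, hσ2,
        _root_.one_zpow, one_mul, zpow_one]
  rcases hτ2 with rfl | rfl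
  · have h1 : cjC h = 1 := by
      apply cjC_eq_one_of_scalar h κ' hκ0
      have h2 : Pm.map (1 : F ≃+* F) = Pm := by
        ext i j
        rfl
      rw [h2] at hmat
      have h3 := congrArg (fun M => M * Pi') hmat
      beta_reduce at h3
      rw [Matrix.mul_assoc, hPP, Matrix.mul_one, Matrix.smul_mul, hPP] at h3
      exact h3
    rw [h1, map_one, one_mul]
  · have h1 : cjC h = cjC a := by
      apply cjC_eq_of_smul h a κ' hκ0
      have h2 : κ' • Pm = κ' • (((a : GL (Fin n) F) : Matrix (Fin n) (Fin n) F) * Pm.map τ') := by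
        rw [hPm, D.aP]
      rw [h2, ← Matrix.smul_mul] at hmat
      have h3 : (Pm.map τ') * (Pi'.map τ') = 1 := by
        rw [← Matrix.map_mul, hPP]
        exact PSUField.map_one' τ'
      have h4 := congrArg (fun M => M * Pi'.map τ') hmat
      beta_reduce at h4
      rw [Matrix.mul_assoc, h3, Matrix.mul_one, Matrix.mul_assoc, h3, Matrix.mul_one] at h4
      exact h4
    have h2 : (cjC h * fa τ' : MulAut (Cfsg.PSU n F q)) ^ 2 = 1 := by
      rw [h1]
      exact gamU_sq D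
    have h3 := orderOf_dvd_of_pow_eq_one h2
    have h4 := Nat.Coprime.eq_one_of_dvd hcop h3
    exact orderOf_eq_one_iff.1 h4

end GraphV3

end Cfsg.Agent.Lib.Helper5.UBal
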