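import Mathlib
import Cfsg.Agent.Lib.Helper5.GInv.Geom
import Cfsg.Agent.Lib.Helper5.GInv.Eich

set_option autoImplicit false

/-! Relative rigidity for quadratic spaces: a semilinear bijection of a quadratic space over a
field `F` which commutes with the Eichler transformations defined over a subfield `E` is, on the
`E`-rational vectors, a scalar multiplication, and its field automorphism fixes `E`. -/

namespace Cfsg.Agent.Lib.Helper5.UBal

open Module QuadraticMap Cfsg.Agent.Lib.Helper5 Cfsg.Agent.Lib.Helper5.GInv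

section RelO
variable {E : Type*} [Field E] [Finite E] {F : Type*} [Field F]
variable {W : Type*} [AddCommGroup W] [Module E W] [FiniteDimensional E W]
variable {V : Type*} [AddCommGroup V] [Module F V]

set_option maxHeartbeats 3200000 in
theorem rel_o (Q₀ : QuadraticForm E W) (Q : QuadraticForm F V) (h2 : (2 : E) ≠ 0)
    (hQ₀ : (polarBilin Q₀).Nondegenerate) (hdim : 3 ≤ finrank E W)
    (ι : E →+* F) (j : W → V) (hjadd : ∀ x y, j (x + y) = j x + j y)
    (hjsmul : ∀ (a : E) (x : W), j (a • x) = ι a • j x)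
    (hform : ∀ x, Q (j x) = ι (Q₀ x))
    (τ : F ≃+* F) (g : V → V) (hadd : ∀ x y, g (x + y) = g x + g y)
    (hsmul : ∀ (c : F) (x : V), g (c • x) = τ c • g x) (hinj : ∀ x, g x = 0 → x = 0)
    (hcomm : ∀ e u : W, Q₀ e = 0 → polar Q₀ e u = 0 → ∀ x : V,
      g (eich Q (j e) (j u) x) = eich Q (j e) (j u) (g x)) :
    (∀ a : E, τ (ι a) = ι a) ∧ ∃ κ : F, ∀ x : W, g (j x) = κ • j x := by
  have h2F : (2 : F) ≠ 0 := by
    have := (map_ne_zero_iff ι ι.injective).2 h2
    rwa [map_ofNat] at this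
  have hτ2 : τ 2 = 2 := map_ofNat τ 2
  have hι2 : ι 2 = 2 := map_ofNat ι 2
  have hpol : ∀ x y, polar Q (j x) (j y) = ι (polar Q₀ x y) := by
    intro x y
    unfold polar
    rw [← hjadd, hform, hform, hform, map_sub, map_sub]
  have hg0 : g 0 = 0 := by
    have := hsmul 0 (0 : V)
    rwa [zero_smul, map_zero, zero_smul] at this
  have hneg : ∀ x, g (-x) = -g x := by
    intro x
    have := hadd x (-x)
    rw [add_neg_cancel, hg0] at this
    exact (neg_eq_of_add_eq_zero_right this.symm).symm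
  have hsub : ∀ x y, g (x - y) = g x - g y := by
    intro x y
    rw [sub_eq_add_neg, hadd, hneg, ← sub_eq_add_neg]
  have hj0' : j (0 : W) = 0 := by
    have := hjsmul 0 (0 : W)
    rwa [zero_smul, map_zero, zero_smul] at this
  have hj0 : ∀ w : W, j w = 0 → w = 0 := by
    intro w hw
    apply hQ₀.1
    intro y
    have := hpol w y
    rw [hw] at this
    have h0 : polar Q 0 (j y) = 0 := by simp [polar]
    rw [h0] at this
    exact (map_eq_zero_iff ι ι.injective).1 this.symm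
  have hjne : ∀ w : W, w ≠ 0 → j w ≠ 0 := fun w hw h0 => hw (hj0 w h0)
  -- (*O)
  have S1 : ∀ e u : W, Q₀ e = 0 → polar Q₀ e u = 0 → ∀ x : V,
      τ (-(2 * ι (Q₀ u) * polar Q (j e) x)) • g (j e)
        = (-(2 * ι (Q₀ u) * polar Q (j e) (g x))) • j e := by
    intro e u he heu x
    have hje : Q (j e) = 0 := by rw [hform, he, map_zero]
    have hjeu : polar Q (j e) (j u) = 0 := by rw [hpol, heu, map_zero]
    have h3 := eich_sub_sq Q hje hjeu x
    have h4 := eich_sub_sq Q hje hjeu (g x)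
    have h5 := congrArg g h3
    rw [hsub, hcomm e u he heu, hsub, hcomm e u he heu, h4, hsmul, hform] at h5
    exact h5.symm
  -- fixed points
  have hfix : ∀ e : W, e ≠ 0 → Q₀ e = 0 → ∃ c : F, g (j e) = c • j e := by
    intro e he0 he
    obtain ⟨p, hep, hp⟩ := exists_partner Q₀ hQ₀ he0 he
    obtain ⟨u, heu, -, hu⟩ := exists_nonsing_perp_pair Q₀ hQ₀ hdim he hp hep
    have h1 := S1 e u he heu (j p)
    rw [hpol, hep, map_one, mul_one] at h1
    have hc0 : -(2 * ι (Q₀ u)) ≠ 0 :=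
      neg_ne_zero.2 (mul_ne_zero h2F ((map_ne_zero_iff ι ι.injective).2 hu))
    have h6 : τ (-(2 * ι (Q₀ u))) ≠ 0 := (map_ne_zero_iff τ τ.injective).2 hc0
    refine ⟨(τ (-(2 * ι (Q₀ u))))⁻¹ * -(2 * ι (Q₀ u) * polar Q (j e) (g (j p))), ?_⟩
    rw [mul_smul, ← h1, smul_smul, inv_mul_cancel₀ h6, one_smul]
  have hcne : ∀ w : W, w ≠ 0 → ∀ c : F, g (j w) = c • j w → c ≠ 0 := by
    intro w hw0 c hc h0
    rw [h0, zero_smul] at hc
    exact hjne w hw0 (hinj _ hc)
  -- (**O)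
  have S2 : ∀ e u : W, e ≠ 0 → Q₀ e = 0 → polar Q₀ e u = 0 → ∀ c : F, g (j e) = c • j e →
      ∀ x : V, τ (ι (Q₀ u)) * τ (polar Q (j e) x) * c = ι (Q₀ u) * polar Q (j e) (g x) := by
    intro e u he0 he heu c hc x
    have h1 := S1 e u he heu x
    rw [hc, smul_smul] at h1
    have h3 := sub_eq_zero.2 h1
    rw [← sub_smul] at h3
    rcases smul_eq_zero.1 h3 with h4 | h4
    · have h5 := sub_eq_zero.1 h4
      rw [map_neg, map_mul, map_mul, hτ2] at h5
      have h6 : (2 : F) * (τ (ι (Q₀ u)) * τ (polar Q (j e) x) * c)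
          = 2 * (ι (Q₀ u) * polar Q (j e) (g x)) := by linear_combination -h5
      exact mul_left_cancel₀ h2F h6
    · exact absurd h4 (hjne e he0)
  -- pairs
  have P1 : ∀ e f u : W, e ≠ 0 → Q₀ e = 0 → polar Q₀ e f = 1 → polar Q₀ e u = 0 →
      ∀ ce cf : F, g (j e) = ce • j e → g (j f) = cf • j f →
      τ (ι (Q₀ u)) * ce = ι (Q₀ u) * cf := by
    intro e f u he0 he hef heu ce cf hce hcf
    have := S2 e u he0 he heu ce hce (j f)
    rw [hpol, hef, map_one, map_one, mul_one, hcf, polar_smul_right, hpol, hef, map_one,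
      smul_eq_mul, mul_one] at this
    exact this
  -- the triple
  obtain ⟨e, he0, he⟩ := exists_singular_of_finrank Q₀ hdim
  obtain ⟨f, hef, hf⟩ := exists_partner Q₀ hQ₀ he0 he
  have hfe : polar Q₀ f e = 1 := by rw [polar_comm]; exact hef
  have hf0 : f ≠ 0 := ne_zero_of_polar_ne Q₀ (by rw [hef]; exact one_ne_zero)
  obtain ⟨u, heu, hfu, hu⟩ := exists_nonsing_perp_pair Q₀ hQ₀ hdim he hf hef
  have hue : polar Q₀ u e = 0 := by rw [polar_comm]; exact heu
  have huf : polar Q₀ u f = 0 := by rw [polar_comm]; exact hfu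
  have hee := polar_self_sing Q₀ he
  have hff := polar_self_sing Q₀ hf
  have huu : polar Q₀ u u = 2 * Q₀ u := by
    rw [QuadraticMap.polar_self]
    simp
  obtain ⟨ce, hce⟩ := hfix e he0 he
  obtain ⟨cf, hcf⟩ := hfix f hf0 hf
  have hce0 := hcne e he0 ce hce
  have hιu : ι (Q₀ u) ≠ 0 := (map_ne_zero_iff ι ι.injective).2 hu
  have hτιu : τ (ι (Q₀ u)) ≠ 0 := (map_ne_zero_iff τ τ.injective).2 hιu
  -- `f` with `e`:  `τ(ιQu) cf = ιQu ce`
  have hpair := P1 f e u hf0 hf hfe hfu cf ce hcf hce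
  have hτfix : ∀ b : E, τ (ι b) = ι b := by
    have hR : ∀ b : E, τ (ι b) * polar Q (g (j u)) (j u) = ce * ι b * (2 * ι (Q₀ u)) := by
      intro b
      obtain ⟨z, hz⟩ : ∃ z : W, z = e + (-(b ^ 2 * Q₀ u)) • f + b • u := ⟨_, rfl⟩
      obtain ⟨ub, hub⟩ : ∃ ub : W, ub = u + (-(2 * b * Q₀ u)) • f := ⟨_, rfl⟩
      have hzQ : Q₀ z = 0 := by
        have h3 : z = (1 : E) • e + (-(b ^ 2 * Q₀ u)) • f + b • u := by rw [hz, one_smul]
        rw [h3, map_lin3, he, hf, hef, heu, hfu]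
        ring
      have hzf : polar Q₀ z f = 1 := by
        rw [hz, polar_add_left, polar_add_left, polar_smul_left, polar_smul_left, hef, hff, huf]
        simp
      have hfz : polar Q₀ f z = 1 := by rw [polar_comm]; exact hzf
      have hz0 : z ≠ 0 := by
        intro h0
        rw [h0] at hzf
        rw [polar_zero_left' Q₀ f] at hzf
        exact zero_ne_one hzf
      have hubQ : Q₀ ub = Q₀ u := by
        have h3 : ub = (1 : E) • u + (-(2 * b * Q₀ u)) • f := by rw [hub, one_smul]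
        rw [h3, map_lin2, hf, huf]
        ring
      have hfub : polar Q₀ f ub = 0 := by
        rw [hub, polar_add_right, polar_smul_right, hfu, hff]
        simp
      obtain ⟨cz, hcz⟩ := hfix z hz0 hzQ
      have h1 := P1 f z ub hf0 hf hfz hfub cf cz hcf hcz
      rw [hubQ] at h1
      have h2' : cz = ce := by
        have h3 : ι (Q₀ u) * cz = ι (Q₀ u) * ce := by rw [← h1, hpair]
        exact mul_left_cancel₀ hιu h3
      rw [h2'] at hcz
      rw [hz, hjadd, hjadd, hjsmul, hjsmul, hadd, hadd, hsmul, hsmul, hce, hcf] at hcz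
      have h4 : τ (ι b) • g (j u)
          = (ce * ι (-(b ^ 2 * Q₀ u)) - τ (ι (-(b ^ 2 * Q₀ u))) * cf) • j f
            + (ce * ι b) • j u := by
        have h5 : τ (ι b) • g (j u) = (ce • j e + τ (ι (-(b ^ 2 * Q₀ u))) • cf • j f
            + τ (ι b) • g (j u)) - ce • j e - (τ (ι (-(b ^ 2 * Q₀ u))) * cf) • j f := by
          rw [mul_smul]
          abel
        rw [h5, hcz]
        module
      have h6 := congrArg (fun x => polar Q x (j u)) h4
      simp only [polar_add_left, polar_smul_left, hpol, hfu, huu, map_zero, smul_zero, zero_add,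
        smul_eq_mul, map_mul, hι2] at h6
      rw [h6]
      ring
    intro b
    have h1 := hR 1
    rw [map_one, map_one, one_mul, mul_one] at h1
    have h3 := hR b
    rw [h1] at h3
    have h4 : (τ (ι b) - ι b) * (ce * (2 * ι (Q₀ u))) = 0 := by linear_combination h3
    rcases mul_eq_zero.1 h4 with h5 | h5
    · exact sub_eq_zero.1 h5
    · exact absurd h5 (mul_ne_zero hce0 (mul_ne_zero h2F hιu))
  refine ⟨hτfix, ce, ?_⟩
  -- all singular vectors have the same multiplier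
  have S3 : ∀ w₁ w₂ : W, w₁ ≠ 0 → w₂ ≠ 0 → Q₀ w₁ = 0 → Q₀ w₂ = 0 → polar Q₀ w₁ w₂ ≠ 0 →
      ∀ c₁ c₂ : F, g (j w₁) = c₁ • j w₁ → g (j w₂) = c₂ • j w₂ → c₁ = c₂ := by
    intro w₁ w₂ hw₁0 hw₂0 hw₁ hw₂ h12 c₁ c₂ hc₁ hc₂
    obtain ⟨p, hwp, hp⟩ := exists_partner Q₀ hQ₀ hw₁0 hw₁
    obtain ⟨u', hwu', -, hu'⟩ := exists_nonsing_perp_pair Q₀ hQ₀ hdim hw₁ hp hwp
    have h1 := S2 w₁ u' hw₁0 hw₁ hwu' c₁ hc₁ (j w₂)
    rw [hpol, hτfix, hτfix, hc₂, polar_smul_right, hpol, smul_eq_mul] at h1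
    have hne : ι (polar Q₀ w₁ w₂) ≠ 0 := (map_ne_zero_iff ι ι.injective).2 h12
    have hne' : ι (Q₀ u') ≠ 0 := (map_ne_zero_iff ι ι.injective).2 hu'
    have h3 : (ι (Q₀ u') * ι (polar Q₀ w₁ w₂)) * (c₁ - c₂) = 0 := by linear_combination h1
    rcases mul_eq_zero.1 h3 with h4 | h4
    · exact absurd h4 (mul_ne_zero hne' hne)
    · exact sub_eq_zero.1 h4
  have hiso : ∀ x : W, Q₀ x = 0 → g (j x) = ce • j x := by
    intro x hxx
    by_cases hx0 : x = 0
    · rw [hx0, hj0', hg0, smul_zero]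
    obtain ⟨cx, hcx⟩ := hfix x hx0 hxx
    by_cases hex : polar Q₀ e x = 0
    · obtain ⟨z, hzz, hez, hxz⟩ := exists_nonperp_both Q₀ hQ₀ he0 hx0 he hex
      have hz0 : z ≠ 0 := ne_zero_of_polar_ne Q₀ hez
      obtain ⟨cz, hcz⟩ := hfix z hz0 hzz
      have e1 := S3 e z he0 hz0 he hzz hez ce cz hce hcz
      have e2 := S3 x z hx0 hz0 hxx hzz hxz cx cz hcx hcz
      rw [hcx, e2, ← e1]
    · have e1 := S3 e x he0 hx0 he hxx hex ce cx hce hcx
      rw [hcx, ← e1]
  intro x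
  obtain ⟨x₀, hx₀⟩ : ∃ x₀ : W, x₀ = x - polar Q₀ x f • e - polar Q₀ x e • f := ⟨_, rfl⟩
  have hx₀e : polar Q₀ x₀ e = 0 := by
    rw [hx₀, polar_sub_left, polar_sub_left, polar_smul_left, polar_smul_left, hee, hfe]
    simp
  have hx₀f : polar Q₀ x₀ f = 0 := by
    rw [hx₀, polar_sub_left, polar_sub_left, polar_smul_left, polar_smul_left, hff, hef]
    simp
  obtain ⟨y, hyd⟩ : ∃ y : W, y = e + (-(Q₀ x₀)) • f + x₀ := ⟨_, rfl⟩
  have hy : Q₀ y = 0 := by
    have h3 : y = (1 : E) • e + (-(Q₀ x₀)) • f + (1 : E) • x₀ := by rw [hyd, one_smul, one_smul]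
    rw [h3, map_lin3, he, hf, hef, polar_comm Q₀ e x₀, hx₀e, polar_comm Q₀ f x₀, hx₀f]
    ring
  have h1 := hiso y hy
  have h3 := hiso f hf
  have hx : x = y + (polar Q₀ x f - 1) • e + (polar Q₀ x e + Q₀ x₀) • f := by
    rw [hyd, hx₀]
    module
  rw [hx]
  simp only [hjadd, hjsmul, hadd, hsmul, hτfix, h1, hce, h3]
  module

end RelO

end Cfsg.Agent.Lib.Helper5.UBal
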