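import Mathlib
import Cfsg.Agent.Lib.Helper5.UBal.GraphV3
import Cfsg.Agent.Lib.Helper5.UBal.RelO
import Cfsg.Agent.Lib.Helper5.UBal.FieldU8
import Cfsg.Agent.Lib.Helper5.LBal.GraphO2
import Cfsg.Agent.Lib.Helper5.LBal.Core

set_option autoImplicit false

/-! Involutory automorphisms of `PSU_n(q)` of graph type, orthogonal case: the centralizer has
trivial core. -/

namespace Cfsg.Agent.Lib.Helper5.UBal

open Matrix Module QuadraticMap Cfsg.Agent.Lib.Helper5.PSLCoset Cfsg.Agent.Lib.Helper5.PSUAut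
  Cfsg.Agent.Lib.Helper5.UAut Cfsg.Agent.Lib.Helper5.PSUField Cfsg.Agent.Lib.Helper5.SLnAut
  Cfsg.Agent.Lib.Helper5.LBal Cfsg.Agent.Lib.Helper5.GraphInv Cfsg.Agent.Lib.Helper5.PSpBal
  Cfsg.Agent.Lib.Helper5.GInv

section Gen
variable {E : Type*} [Field E] {F : Type*} [Field F]
variable {W : Type*} [AddCommGroup W] [Module E W]
variable {V : Type*} [AddCommGroup V] [Module F V]

theorem eich_iota (Q₀ : QuadraticForm E W) (Q : QuadraticForm F V) (ι : E →+* F) (j : W → V)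
    (hjadd : ∀ x y, j (x + y) = j x + j y) (hjsmul : ∀ (a : E) (x : W), j (a • x) = ι a • j x)
    (hform : ∀ x, Q (j x) = ι (Q₀ x)) (e u y : W) :
    j (eich Q₀ e u y) = eich Q (j e) (j u) (j y) := by
  have hpol : ∀ x y, polar Q (j x) (j y) = ι (polar Q₀ x y) := by
    intro x y
    unfold polar
    rw [← hjadd, hform, hform, hform, map_sub, map_sub]
  have hjsub : ∀ x y, j (x - y) = j x - j y := by
    intro x y
    have := hjadd (x - y) y
    rw [sub_add_cancel] at this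
    rw [this, add_sub_cancel_right]
  rw [GInv.eich_apply, GInv.eich_apply, hjsub, hjsub, hjadd, hjsmul, hjsmul, hjsmul, hpol, hpol, hform,
    map_mul]

end Gen

section GraphV4
variable {n : ℕ} {F : Type*} [Field F] [Fintype F] {q : ℕ} {E : Type*} [Field E] [Fintype E]
  {ι : E →+* F} {σ : F ≃+* F}

theorem map_mulVec_iota (ι : E →+* F) (A : Matrix (Fin n) (Fin n) E) (y : Fin n → E) :
    A.map ι *ᵥ (fun i => ι (y i)) = fun i => ι ((A *ᵥ y) i) := by
  funext i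
  exact (RingHom.map_mulVec ι A y i).symm

theorem QM_map_iota (ι : E →+* F) (M₀ : Matrix (Fin n) (Fin n) E) (x : Fin n → E) :
    QM (M₀.map ι) (fun i => ι (x i)) = ι (QM M₀ x) := by
  rw [QM_apply, QM_apply, map_mulVec_iota, RingHom.map_dotProduct]
  rfl

theorem eichSL_map_mulVec (ι : E →+* F) (r : ℕ) [Fact r.Prime] [CharP E r]
    (M₀ : Matrix (Fin n) (Fin n) E) (e u : Fin n → E) (he : QM M₀ e = 0)
    (heu : polar (QM M₀) e u = 0) (x : Fin n → F) :
    ((eichSL r M₀ e u he heu : SpecialLinearGroup (Fin n) E) : Matrix (Fin n) (Fin n) E).map ι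
      *ᵥ x = eich (QM (M₀.map ι)) (fun i => ι (e i)) (fun i => ι (u i)) x := by
  have key : Matrix.toLin' (((eichSL r M₀ e u he heu : SpecialLinearGroup (Fin n) E) :
      Matrix (Fin n) (Fin n) E).map ι)
      = eich (QM (M₀.map ι)) (fun i => ι (e i)) (fun i => ι (u i)) := by
    apply (Pi.basisFun F (Fin n)).ext
    intro k
    rw [Pi.basisFun_apply, Matrix.toLin'_apply, ← iota_single ι k, map_mulVec_iota]
    have h3 : ((eichSL r M₀ e u he heu : SpecialLinearGroup (Fin n) E) :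
        Matrix (Fin n) (Fin n) E) *ᵥ (Pi.single k 1) = eich (QM M₀) e u (Pi.single k 1) := by
      rw [← toLin'_apply_mulVec, toLin'_eichSL, eichE_apply]
    rw [h3]
    exact eich_iota (QM M₀) (QM (M₀.map ι)) ι (fun w i => ι (w i))
      (by intro x y; funext i; simp) (by intro a x; funext i; simp) (QM_map_iota ι M₀) e u _
  have h1 := congrArg (fun φ : (Fin n → F) →ₗ[F] (Fin n → F) => φ x) key
  beta_reduce at h1
  rw [Matrix.toLin'_apply] at h1
  exact h1

set_option maxHeartbeats 800000 in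
theorem hrig_orth (ι : E →+* F) (r : ℕ) [Fact r.Prime] [CharP E r] (h2 : (2 : E) ≠ 0)
    (hn : 3 ≤ n) (c : GL (Fin n) E)
    (hc : (c : Matrix (Fin n) (Fin n) E)ᵀ = (c : Matrix (Fin n) (Fin n) E))
    (τ' : F ≃+* F) (g : (Fin n → F) → (Fin n → F))
    (hadd : ∀ x y, g (x + y) = g x + g y)
    (hsmul : ∀ (c : F) (x : Fin n → F), g (c • x) = τ' c • g x)
    (hinj : ∀ x, g x = 0 → x = 0)
    (hcomm : ∀ l₀ ∈ eichSet r ((c⁻¹ : GL (Fin n) E) : Matrix (Fin n) (Fin n) E), ∀ x,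
      g ((l₀ : Matrix (Fin n) (Fin n) E).map ι *ᵥ x)
        = (l₀ : Matrix (Fin n) (Fin n) E).map ι *ᵥ g x) :
    (∀ c : E, τ' (ι c) = ι c) ∧ ∃ κ' : F, ∀ w : Fin n → E,
      g (fun i => ι (w i)) = κ' • (fun i => ι (w i)) := by
  obtain ⟨M, hM⟩ : ∃ M : Matrix (Fin n) (Fin n) E,
      M = ((c⁻¹ : GL (Fin n) E) : Matrix (Fin n) (Fin n) E) := ⟨_, rfl⟩
  rw [← hM] at hcomm
  have hMs : Mᵀ = M := by
    rw [hM]
    exact transpose_inv_of_symm c hc
  have hQ : (polarBilin (QM M)).Nondegenerate :=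
    QM_nondeg h2 hMs (c : Matrix (Fin n) (Fin n) E)
      (by rw [hM, ← Units.val_mul, inv_mul_cancel, Units.val_one])
  have hd : 3 ≤ finrank E (Fin n → E) := by
    rw [Module.finrank_fin_fun]
    exact hn
  exact rel_o (QM M) (QM (M.map ι)) h2 hQ hd ι (fun w i => ι (w i))
    (by intro x y; funext i; simp) (by intro a x; funext i; simp) (QM_map_iota ι M) τ' g
    hadd hsmul hinj
    (by
      intro e u he heu x
      have h1 := hcomm (eichSL r M e u he heu) ⟨e, u, he, heu, rfl⟩ x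
      rw [eichSL_map_mulVec, eichSL_map_mulVec] at h1
      exact h1)

variable {a : ↥(CU n F q)} {P : GL (Fin n) F} {κ : F}

set_option maxHeartbeats 800000 in
/-- the centralizer of an involutory automorphism of graph type, orthogonal case, has trivial
core -/
theorem no_core_graph_U_orth (c : GL (Fin n) E)
    (hc : (c : Matrix (Fin n) (Fin n) E)ᵀ = (c : Matrix (Fin n) (Fin n) E))
    (D : GD ι σ q a P κ ((c⁻¹ : GL (Fin n) E) : Matrix (Fin n) (Fin n) E))
    (hF : Fintype.card F = q ^ 2) (hn : 3 ≤ n) (h32 : ¬ (n = 3 ∧ q = 2))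
    (r : ℕ) [Fact r.Prime] [CharP F r] [CharP E r] {f : ℕ} (hq : q = r ^ f)
    (hσ : orderOf σ = 2) (h2 : (2 : E) ≠ 0)
    (A : Subgroup (MulAut (Cfsg.PSU n F q)))
    (hinn : ∀ k : Cfsg.PSU n F q, MulAut.conj k ∈ A)
    (N : Subgroup (MulAut (Cfsg.PSU n F q)))
    (hN : HasCore 2 A (gamU σ a) N) : False := by
  haveI := finite_PSU (n := n) (F := F) (q := q)
  have hS₀ : ∀ l₀ ∈ eichSet r ((c⁻¹ : GL (Fin n) E) : Matrix (Fin n) (Fin n) E),
      (l₀ : Matrix (Fin n) (Fin n) E)ᵀ * ((c⁻¹ : GL (Fin n) E) : Matrix (Fin n) (Fin n) E)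
        * (l₀ : Matrix (Fin n) (Fin n) E)
      = ((c⁻¹ : GL (Fin n) E) : Matrix (Fin n) (Fin n) E) := by
    intro l₀ hl₀
    exact (thetaG_fix_iff c l₀).1 (eichSet_fix r h2 c hc l₀ hl₀)
  refine no_core_abstract (conj_injective_PSU hF hn) 2 A hinn (gamU σ a)
    ((fun l : ↥(Cfsg.SU n F q) => (QuotientGroup.mk l : Cfsg.PSU n F q)) ''
      LtU ι P q (eichSet r ((c⁻¹ : GL (Fin n) E) : Matrix (Fin n) (Fin n) E))) ?_ ?_ ?_ N hN
  · rintro _ ⟨l, hl, rfl⟩
    rw [gamU_mk, LtU_fix D _ l hl]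
  · intro Dg hDfix hDcop hDnorm
    refine hA_graph_U D hn _ hS₀ ?_ Dg hDfix hDcop ?_
    · intro H₀ hfix hodd hnorm
      exact hnc_orth r h2 hn c hc H₀ (fun h hh => (thetaG_fix_iff c h).2 (hfix h hh)) hodd hnorm
    · intro l hl d hd
      exact hDnorm _ ⟨l, hl, rfl⟩ d hd
  · intro ν _ hνfix hνodd
    refine hB_graph_U D hF hn h32 r hq hσ _ hS₀ ?_ (hrig_orth ι r h2 hn c hc) ν ?_ hνodd
    · rintro l₀ ⟨e, u, he, heu, rfl⟩
      exact eichSL_pow r _ e u he heu
    · intro l hl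
      exact hνfix _ ⟨l, hl, rfl⟩

end GraphV4

end Cfsg.Agent.Lib.Helper5.UBal
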