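import Mathlib
import Cfsg.Agent.Lib.Helper5.LBal.SpTv

set_option autoImplicit false

/-! Relative rigidity for alternating spaces: a semilinear bijection of an alternating space over
a field `F` which commutes with the transvections defined over a subfield `E` is, on the
`E`-rational vectors, a scalar multiplication, and its field automorphism fixes `E`. -/

namespace Cfsg.Agent.Lib.Helper5.UBal

open Module Cfsg.Agent.Lib.Helper5.LBal

section RelSp
variable {E : Type*} [Field E] {F : Type*} [Field F]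
variable {W : Type*} [AddCommGroup W] [Module E W]
variable {V : Type*} [AddCommGroup V] [Module F V]

set_option maxHeartbeats 1600000 in
theorem rel_sp (B₀ : LinearMap.BilinForm E W) (B : LinearMap.BilinForm F V)
    (hnd : ∀ x : W, (∀ y, B₀ y x = 0) → x = 0) (hW : ∃ w : W, w ≠ 0)
    (ι : E →+* F) (j : W → V)
    (hjsmul : ∀ (a : E) (x : W), j (a • x) = ι a • j x)
    (hform : ∀ x y, B (j x) (j y) = ι (B₀ x y))
    (τ : F ≃+* F) (g : V → V) (hadd : ∀ x y, g (x + y) = g x + g y)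
    (hsmul : ∀ (c : F) (x : V), g (c • x) = τ c • g x) (hinj : ∀ x, g x = 0 → x = 0)
    (hcomm : ∀ (u : W) (c : E) (x : V), g (tv B (j u) (ι c) x) = tv B (j u) (ι c) (g x)) :
    (∀ a : E, τ (ι a) = ι a) ∧ ∃ κ : F, ∀ x : W, g (j x) = κ • j x := by
  have hj0' : j (0 : W) = 0 := by
    have := hjsmul 0 (0 : W)
    rwa [zero_smul, map_zero, zero_smul] at this
  have hg0 : g 0 = 0 := by
    have := hsmul 0 (0 : V)
    rwa [zero_smul, map_zero, zero_smul] at this
  have hj0 : ∀ w : W, j w = 0 → w = 0 := by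
    intro w hw
    apply hnd
    intro y
    have := hform y w
    rw [hw, map_zero] at this
    exact (map_eq_zero_iff ι ι.injective).1 this.symm
  have hjne : ∀ w : W, w ≠ 0 → j w ≠ 0 := fun w hw h0 => hw (hj0 w h0)
  have hex : ∀ u : W, u ≠ 0 → ∃ y, B₀ y u ≠ 0 := by
    intro u hu0
    by_contra hcon
    push Not at hcon
    exact hu0 (hnd u hcon)
  have S1 : ∀ (u : W) (c : E) (x : V),
      τ (ι c * B x (j u)) • g (j u) = (ι c * B (g x) (j u)) • j u := by
    intro u c x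
    have := hcomm u c x
    rw [tv_apply, tv_apply, hadd, hsmul] at this
    exact add_left_cancel this
  have hfix : ∀ u : W, u ≠ 0 → ∃ c : F, g (j u) = c • j u := by
    intro u hu0
    obtain ⟨y, hy⟩ := hex u hu0
    have h1 := S1 u 1 (j y)
    rw [map_one, one_mul, one_mul, hform] at h1
    have h2 : τ (ι (B₀ y u)) ≠ 0 :=
      (map_ne_zero_iff τ τ.injective).2 ((map_ne_zero_iff ι ι.injective).2 hy)
    refine ⟨(τ (ι (B₀ y u)))⁻¹ * B (g (j y)) (j u), ?_⟩
    rw [mul_smul, ← h1, smul_smul, inv_mul_cancel₀ h2, one_smul]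
  have S2 : ∀ (u : W), u ≠ 0 → ∀ cu : F, g (j u) = cu • j u → ∀ (c : E) (x : V),
      τ (ι c) * τ (B x (j u)) * cu = ι c * B (g x) (j u) := by
    intro u hu0 cu hcu c x
    have h1 := S1 u c x
    rw [hcu, smul_smul, map_mul] at h1
    have h3 := sub_eq_zero.2 h1
    rw [← sub_smul] at h3
    rcases smul_eq_zero.1 h3 with h4 | h4
    · exact sub_eq_zero.1 h4
    · exact absurd h4 (hjne u hu0)
  have hcne : ∀ w : W, w ≠ 0 → ∀ c : F, g (j w) = c • j w → c ≠ 0 := by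
    intro w hw0 c hc h0
    rw [h0, zero_smul] at hc
    exact hjne w hw0 (hinj _ hc)
  obtain ⟨u₀, hu₀⟩ := hW
  obtain ⟨c₀, hc₀⟩ := hfix u₀ hu₀
  have hc₀0 := hcne u₀ hu₀ c₀ hc₀
  obtain ⟨y₀, hy₀⟩ := hex u₀ hu₀
  have hτfix : ∀ a : E, τ (ι a) = ι a := by
    intro a
    have h1 := S2 u₀ hu₀ c₀ hc₀ a (j y₀)
    have h2 := S2 u₀ hu₀ c₀ hc₀ 1 (j y₀)
    rw [map_one, map_one, one_mul, one_mul] at h2
    rw [mul_assoc, h2] at h1
    have h3 : B (g (j y₀)) (j u₀) ≠ 0 := by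
      rw [← h2, hform]
      exact mul_ne_zero ((map_ne_zero_iff τ τ.injective).2
        ((map_ne_zero_iff ι ι.injective).2 hy₀)) hc₀0
    exact mul_right_cancel₀ h3 h1
  refine ⟨hτfix, c₀, ?_⟩
  have S3 : ∀ u u' : W, u ≠ 0 → u' ≠ 0 → B₀ u' u ≠ 0 → ∀ c c' : F, g (j u) = c • j u →
      g (j u') = c' • j u' → c = c' := by
    intro u u' hu0 hu'0 h12 c c' hc hc'
    have h1 := S2 u hu0 c hc 1 (j u')
    rw [map_one, map_one, one_mul, one_mul, hform, hτfix, hc', map_smul, LinearMap.smul_apply,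
      hform, smul_eq_mul] at h1
    have hne : ι (B₀ u' u) ≠ 0 := (map_ne_zero_iff ι ι.injective).2 h12
    have h3 : ι (B₀ u' u) * (c - c') = 0 := by linear_combination h1
    rcases mul_eq_zero.1 h3 with h4 | h4
    · exact absurd h4 hne
    · exact sub_eq_zero.1 h4
  intro x
  by_cases hx0 : x = 0
  · rw [hx0, hj0', hg0, smul_zero]
  obtain ⟨cx, hcx⟩ := hfix x hx0
  obtain ⟨y₁, hy₁⟩ := hex x hx0
  obtain ⟨z, hz1, hz2⟩ : ∃ z, B₀ z u₀ ≠ 0 ∧ B₀ z x ≠ 0 := by
    by_cases h1 : B₀ y₀ x = 0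
    · by_cases h2 : B₀ y₁ u₀ = 0
      · refine ⟨y₀ + y₁, ?_, ?_⟩
        · rw [map_add, LinearMap.add_apply, h2, add_zero]; exact hy₀
        · rw [map_add, LinearMap.add_apply, h1, zero_add]; exact hy₁
      · exact ⟨y₁, h2, hy₁⟩
    · exact ⟨y₀, hy₀, h1⟩
  have hz0 : z ≠ 0 := by
    intro h0
    rw [h0, map_zero, LinearMap.zero_apply] at hz1
    exact hz1 rfl
  obtain ⟨cz, hcz⟩ := hfix z hz0
  have e1 := S3 u₀ z hu₀ hz0 hz1 c₀ cz hc₀ hcz
  have e2 := S3 x z hx0 hz0 hz2 cx cz hcx hcz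
  rw [hcx, e2, ← e1]

end RelSp

end Cfsg.Agent.Lib.Helper5.UBal
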