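import Mathlib
import Cfsg.Agent.Lib.Helper5.UBal.GraphV4
import Cfsg.Agent.Lib.Helper5.UBal.RelSp
import Cfsg.Agent.Lib.Helper5.LBal.GraphSp2

set_option autoImplicit false

/-! Involutory automorphisms of `PSU_n(q)` of graph type, symplectic case: the centralizer has
trivial core. -/

namespace Cfsg.Agent.Lib.Helper5.UBal

open Matrix Module Cfsg.Agent.Lib.Helper5.PSLCoset Cfsg.Agent.Lib.Helper5.PSUAut
  Cfsg.Agent.Lib.Helper5.UAut Cfsg.Agent.Lib.Helper5.PSUField Cfsg.Agent.Lib.Helper5.SLnAut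
  Cfsg.Agent.Lib.Helper5.LBal Cfsg.Agent.Lib.Helper5.GraphInv Cfsg.Agent.Lib.Helper5.PSpBal

section Gen
variable {E : Type*} [Field E] {F : Type*} [Field F]
variable {W : Type*} [AddCommGroup W] [Module E W]
variable {V : Type*} [AddCommGroup V] [Module F V]

theorem tv_iota (B₀ : LinearMap.BilinForm E W) (B : LinearMap.BilinForm F V) (ι : E →+* F)
    (j : W → V) (hjadd : ∀ x y, j (x + y) = j x + j y)
    (hjsmul : ∀ (a : E) (x : W), j (a • x) = ι a • j x)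
    (hform : ∀ x y, B (j x) (j y) = ι (B₀ x y)) (u : W) (c : E) (y : W) :
    j (tv B₀ u c y) = tv B (j u) (ι c) (j y) := by
  rw [tv_apply, tv_apply, hjadd, hjsmul, hform, map_mul]

end Gen

section GraphV5
variable {n : ℕ} {F : Type*} [Field F] [Fintype F] {q : ℕ} {E : Type*} [Field E] [Fintype E]
  {ι : E →+* F} {σ : F ≃+* F}

theorem BM_map_iota (ι : E →+* F) (M₀ : Matrix (Fin n) (Fin n) E) (x y : Fin n → E) :
    BM (M₀.map ι) (fun i => ι (x i)) (fun i => ι (y i)) = ι (BM M₀ x y) := by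
  rw [BM_apply, BM_apply, map_mulVec_iota, RingHom.map_dotProduct]
  rfl

theorem tvSL_map_mulVec (ι : E →+* F) (r : ℕ) [Fact r.Prime] [CharP E r]
    {M₀ : Matrix (Fin n) (Fin n) E} (hB : (BM M₀).IsAlt) (u : Fin n → E) (c : E)
    (x : Fin n → F) :
    ((tvSL r hB u c : SpecialLinearGroup (Fin n) E) : Matrix (Fin n) (Fin n) E).map ι
      *ᵥ x = tv (BM (M₀.map ι)) (fun i => ι (u i)) (ι c) x := by
  have key : Matrix.toLin' (((tvSL r hB u c : SpecialLinearGroup (Fin n) E) :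
      Matrix (Fin n) (Fin n) E).map ι)
      = tv (BM (M₀.map ι)) (fun i => ι (u i)) (ι c) := by
    apply (Pi.basisFun F (Fin n)).ext
    intro k
    rw [Pi.basisFun_apply, Matrix.toLin'_apply, ← iota_single ι k, map_mulVec_iota]
    have h3 : ((tvSL r hB u c : SpecialLinearGroup (Fin n) E) :
        Matrix (Fin n) (Fin n) E) *ᵥ (Pi.single k 1) = tv (BM M₀) u c (Pi.single k 1) := by
      rw [← toLin'_apply_mulVec, toLin'_tvSL, tvE_apply]
    rw [h3]
    exact tv_iota (BM M₀) (BM (M₀.map ι)) ι (fun w i => ι (w i))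
      (by intro x y; funext i; simp) (by intro a x; funext i; simp) (BM_map_iota ι M₀) u c _
  have h1 := congrArg (fun φ : (Fin n → F) →ₗ[F] (Fin n → F) => φ x) key
  beta_reduce at h1
  rw [Matrix.toLin'_apply] at h1
  exact h1

set_option maxHeartbeats 800000 in
theorem hrig_symp (ι : E →+* F) (r : ℕ) [Fact r.Prime] [CharP E r]
    (hn : 3 ≤ n) (c : GL (Fin n) E)
    (hB : (BM ((c⁻¹ : GL (Fin n) E) : Matrix (Fin n) (Fin n) E)).IsAlt)
    (τ' : F ≃+* F) (g : (Fin n → F) → (Fin n → F))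
    (hadd : ∀ x y, g (x + y) = g x + g y)
    (hsmul : ∀ (c : F) (x : Fin n → F), g (c • x) = τ' c • g x)
    (hinj : ∀ x, g x = 0 → x = 0)
    (hcomm : ∀ l₀ ∈ tvSet r hB, ∀ x,
      g ((l₀ : Matrix (Fin n) (Fin n) E).map ι *ᵥ x)
        = (l₀ : Matrix (Fin n) (Fin n) E).map ι *ᵥ g x) :
    (∀ c : E, τ' (ι c) = ι c) ∧ ∃ κ' : F, ∀ w : Fin n → E,
      g (fun i => ι (w i)) = κ' • (fun i => ι (w i)) := by
  have hnd : (BM ((c⁻¹ : GL (Fin n) E) : Matrix (Fin n) (Fin n) E)).Nondegenerate :=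
    BM_nondeg (c : Matrix (Fin n) (Fin n) E)
      (by rw [← Units.val_mul, inv_mul_cancel, Units.val_one])
  exact rel_sp (BM ((c⁻¹ : GL (Fin n) E) : Matrix (Fin n) (Fin n) E))
    (BM (((c⁻¹ : GL (Fin n) E) : Matrix (Fin n) (Fin n) E).map ι))
    (fun x hx => hnd.2 x hx)
    ⟨Pi.single ⟨0, by omega⟩ 1, by
      intro h0
      have := congrFun h0 ⟨0, by omega⟩
      simp at this⟩
    ι (fun w i => ι (w i))
    (by intro a x; funext i; simp) (BM_map_iota ι _) τ' g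
    hadd hsmul hinj
    (by
      intro u a x
      have h1 := hcomm (tvSL r hB u a) ⟨u, a, rfl⟩ x
      rw [tvSL_map_mulVec, tvSL_map_mulVec] at h1
      exact h1)

variable {a : ↥(CU n F q)} {P : GL (Fin n) F} {κ : F}

set_option maxHeartbeats 800000 in
/-- the centralizer of an involutory automorphism of graph type, symplectic case, has trivial
core -/
theorem no_core_graph_U_symp (c : GL (Fin n) E)
    (hc : (c : Matrix (Fin n) (Fin n) E)ᵀ = -(c : Matrix (Fin n) (Fin n) E))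
    (D : GD ι σ q a P κ ((c⁻¹ : GL (Fin n) E) : Matrix (Fin n) (Fin n) E))
    (hF : Fintype.card F = q ^ 2) (hn : 3 ≤ n) (h32 : ¬ (n = 3 ∧ q = 2))
    (r : ℕ) [Fact r.Prime] [CharP F r] [CharP E r] {f : ℕ} (hq : q = r ^ f)
    (hσ : orderOf σ = 2) (h2 : (2 : E) ≠ 0)
    (A : Subgroup (MulAut (Cfsg.PSU n F q)))
    (hinn : ∀ k : Cfsg.PSU n F q, MulAut.conj k ∈ A)
    (N : Subgroup (MulAut (Cfsg.PSU n F q)))
    (hN : HasCore 2 A (gamU σ a) N) : False := by
  haveI := finite_PSU (n := n) (F := F) (q := q)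
  have hB : (BM ((c⁻¹ : GL (Fin n) E) : Matrix (Fin n) (Fin n) E)).IsAlt :=
    BM_alt h2 (transpose_inv_of_skew c hc)
  have hS₀ : ∀ l₀ ∈ tvSet r hB,
      (l₀ : Matrix (Fin n) (Fin n) E)ᵀ * ((c⁻¹ : GL (Fin n) E) : Matrix (Fin n) (Fin n) E)
        * (l₀ : Matrix (Fin n) (Fin n) E)
      = ((c⁻¹ : GL (Fin n) E) : Matrix (Fin n) (Fin n) E) := by
    intro l₀ hl₀
    exact (thetaG_fix_iff c l₀).1 (tvSet_fix r c hB l₀ hl₀)
  refine no_core_abstract (conj_injective_PSU hF hn) 2 A hinn (gamU σ a)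
    ((fun l : ↥(Cfsg.SU n F q) => (QuotientGroup.mk l : Cfsg.PSU n F q)) ''
      LtU ι P q (tvSet r hB)) ?_ ?_ ?_ N hN
  · rintro _ ⟨l, hl, rfl⟩
    rw [gamU_mk, LtU_fix D _ l hl]
  · intro Dg hDfix hDcop hDnorm
    refine hA_graph_U D hn _ hS₀ ?_ Dg hDfix hDcop ?_
    · intro H₀ hfix hodd hnorm
      exact hnc_symp r h2 (by omega) c hB H₀ (fun h hh => (thetaG_fix_iff c h).2 (hfix h hh))
        hodd hnorm
    · intro l hl d hd
      exact hDnorm _ ⟨l, hl, rfl⟩ d hd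
  · intro ν _ hνfix hνodd
    refine hB_graph_U D hF hn h32 r hq hσ _ hS₀ ?_ (hrig_symp ι r hn c hB) ν ?_ hνodd
    · rintro l₀ ⟨u, a', rfl⟩
      exact tvSL_pow r hB u a'
    · intro l hl
      exact hνfix _ ⟨l, hl, rfl⟩

end GraphV5

end Cfsg.Agent.Lib.Helper5.UBal
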