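import Mathlib
import Cfsg.Agent.Lib.Helper5.UBal.GraphV5
import Cfsg.Agent.S0282

set_option autoImplicit false

/-! Involutory automorphisms of `PSU_n(q)` of graph type: the centralizer has trivial core. -/

namespace Cfsg.Agent.Lib.Helper5.UBal

open Matrix Module Cfsg.Agent.Lib.Helper5.PSLCoset Cfsg.Agent.Lib.Helper5.PSUAut
  Cfsg.Agent.Lib.Helper5.UAut Cfsg.Agent.Lib.Helper5.PSUField Cfsg.Agent.Lib.Helper5.SLnAut
  Cfsg.Agent.Lib.Helper5.LBal Cfsg.Agent.Lib.Helper5.GraphInv Cfsg.Agent.Lib.Helper5.PSpBal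

section Abstract
variable {K : Type*} [Group K]

/-- an involutory automorphism of a finite group with trivial center has a nontrivial fixed
point -/
theorem exists_fixed_ne_one_of_sq [Finite K] [Nontrivial K]
    (hc : Function.Injective (MulAut.conj : K →* MulAut K)) (β : MulAut K) (hβ : β ^ 2 = 1) :
    ∃ k : K, k ≠ 1 ∧ β k = k := by
  by_contra hcon
  push Not at hcon
  have hfix : ∀ k, β k = k → k = 1 := by
    intro k hk
    by_contra h
    exact hcon k h hk
  have hββ : ∀ x, β (β x) = x := by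
    intro x
    have h1 := DFunLike.congr_fun hβ x
    rw [pow_two, MulAut.mul_apply] at h1
    exact h1
  have hinj : Function.Injective (fun x : K => x⁻¹ * β x) := by
    intro x y hxy
    beta_reduce at hxy
    have h1 : β (y * x⁻¹) = y * x⁻¹ := by
      rw [map_mul, map_inv]
      have h2 : β y = y * (x⁻¹ * β x) := by rw [hxy]; group
      rw [h2]
      group
    have h2 := hfix _ h1
    exact (mul_inv_eq_one.1 h2).symm
  have hsurj := Finite.surjective_of_injective hinj
  have hinv : ∀ g, β g = g⁻¹ := by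
    intro g
    obtain ⟨x, rfl⟩ := hsurj g
    show β (x⁻¹ * β x) = (x⁻¹ * β x)⁻¹
    rw [map_mul, map_inv, hββ, _root_.mul_inv_rev, inv_inv]
  have hcomm : ∀ a b : K, a * b = b * a := by
    intro a b
    have h1 := hinv (a⁻¹ * b⁻¹)
    rw [map_mul, hinv, hinv, inv_inv, inv_inv, _root_.mul_inv_rev, inv_inv, inv_inv] at h1
    exact h1
  obtain ⟨k, hk⟩ := exists_ne (1 : K)
  apply hk
  apply hc
  rw [map_one]
  ext x
  rw [MulAut.conj_apply, MulAut.one_apply, hcomm k x, mul_inv_cancel_right]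

end Abstract

section GraphV6
variable {n : ℕ} {F : Type*} [Field F] [Fintype F] {q : ℕ}

/-- the group `PSU_3(2)` is not simple -/
theorem not_32_of_simple (hF : Fintype.card F = q ^ 2) (hn : 3 ≤ n)
    (hK : IsSimpleGroup (Cfsg.PSU n F q)) : ¬ (n = 3 ∧ q = 2) := by
  rintro ⟨rfl, rfl⟩
  have hF4 : Fintype.card F = 4 := by rw [hF]; norm_num
  have hsol := (Cfsg.Agent.S0282.result hF4).2
  have hcomm := IsSimpleGroup.comm_iff_isSolvable.2 hsol
  obtain ⟨k, hk⟩ := exists_ne (1 : Cfsg.PSU 3 F 2)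
  apply hk
  apply conj_injective_PSU hF hn
  rw [map_one]
  ext x
  rw [MulAut.conj_apply, MulAut.one_apply, hcomm k x, mul_inv_cancel_right]

set_option maxHeartbeats 800000 in
/-- the centralizer of an involutory automorphism in the coset of the involutory field
automorphism has trivial core -/
theorem no_core_graph_U (hF : Fintype.card F = q ^ 2) (hn : 3 ≤ n) (h32 : ¬ (n = 3 ∧ q = 2))
    (r : ℕ) [Fact r.Prime] [CharP F r] {f : ℕ} (hq : q = r ^ f) (hr2 : r ≠ 2)
    (σ : F ≃+* F) (hσ : orderOf σ = 2) (hσq : ∀ x : F, σ x = x ^ q)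
    (g : ↥(CU n F q)) (hord : orderOf (gamU σ g) = 2)
    (A : Subgroup (MulAut (Cfsg.PSU n F q)))
    (hinn : ∀ k : Cfsg.PSU n F q, MulAut.conj k ∈ A)
    (N : Subgroup (MulAut (Cfsg.PSU n F q)))
    (hN : HasCore 2 A (gamU σ g) N) : False := by
  classical
  have hf : f ≠ 0 := by
    rintro rfl
    rw [pow_zero] at hq
    rw [hq, one_pow] at hF
    have := Fintype.one_lt_card (α := F)
    omega
  obtain ⟨E, _, _, hE⟩ : ∃ (E : Type) (_ : Field E) (_ : Fintype E), Fintype.card E = q :=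
    ⟨GaloisField r f, inferInstance, Fintype.ofFinite _, by
      rw [Fintype.card_eq_nat_card, GaloisField.card r f hf, hq]⟩
  obtain ⟨σ', ι, -, hσ'q, hd⟩ := exists_desc hF hE
  have hσσ : σ' = σ := by
    ext x
    rw [hσ'q, hσq]
  subst hσσ
  haveI : CharP E r := (RingHom.charP_iff ι ι.injective r).2 inferInstance
  have h2 : (2 : E) ≠ 0 := by
    intro h0
    have h1 : ((2 : ℕ) : E) = 0 := by exact_mod_cast h0
    rw [CharP.cast_eq_zero_iff E r] at h1
    exact hr2 ((Nat.prime_dvd_prime_iff_eq (Fact.out : r.Prime) Nat.prime_two).1 h1)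
  obtain ⟨M₀, hsym, hrel⟩ := exists_rel_of_isGraph hF hn hσ hσq hd (gamU σ' g)
    (gamU_isGraph hF hn σ' hσ g) hord
  have hdet : M₀.det ≠ 0 := hrel.det_ne_zero
  obtain ⟨a, P, κ, hκ, hγ, haP, hPM⟩ := hrel
  obtain ⟨c, hc⟩ : ∃ c : GL (Fin n) E,
      ((c⁻¹ : GL (Fin n) E) : Matrix (Fin n) (Fin n) E) = M₀ :=
    ⟨(Matrix.GeneralLinearGroup.mkOfDetNeZero M₀ hdet)⁻¹, by rw [inv_inv]; rfl⟩
  subst hc
  rw [hγ] at hN
  have D : GD ι σ' q a P κ ((c⁻¹ : GL (Fin n) E) : Matrix (Fin n) (Fin n) E) :=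
    ⟨hd, hσq, hκ, haP, hPM⟩
  rcases hsym with hs | hs
  · have hc : (c : Matrix (Fin n) (Fin n) E)ᵀ = (c : Matrix (Fin n) (Fin n) E) := by
      have := transpose_inv_of_symm c⁻¹ hs
      rwa [inv_inv] at this
    exact no_core_graph_U_orth c hc D hF hn h32 r hq hσ h2 A hinn N hN
  · have hc : (c : Matrix (Fin n) (Fin n) E)ᵀ = -(c : Matrix (Fin n) (Fin n) E) := by
      have := transpose_inv_of_skew c⁻¹ hs
      rwa [inv_inv] at this
    exact no_core_graph_U_symp c hc D hF hn h32 r hq hσ h2 A hinn N hN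

end GraphV6

end Cfsg.Agent.Lib.Helper5.UBal
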