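import Mathlib
import Cfsg.Agent.Lib.Helper5.PSL2Aut6

set_option autoImplicit false

/-! The automorphism group of a finite field has at most one involution. -/

namespace Cfsg.Agent.Lib.Helper5.UBal

section Gal
variable {F : Type*} [Field F] [Fintype F]

theorem ringAut_invol_unique (σ τ : F ≃+* F) (hσ : orderOf σ = 2) (hτ : orderOf τ = 2) :
    σ = τ := by
  classical
  obtain ⟨p, hchar⟩ := CharP.exists F
  obtain ⟨k, hp, hk⟩ := FiniteField.card F p
  haveI : Fact p.Prime := ⟨hp⟩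
  haveI : IsCyclic (F ≃+* F) :=
    (Cfsg.Agent.Lib.Helper5.PSL2Aut.ringAut_cyclic_card (F := F) (p := p) (f := k) k.pos hk).1
  haveI : Finite (F ≃+* F) :=
    Finite.of_injective (fun e : F ≃+* F => (e : F → F)) DFunLike.coe_injective
  haveI : Fintype (F ≃+* F) := Fintype.ofFinite _
  have hd : 2 ∣ Fintype.card (F ≃+* F) := by
    rw [← hσ]
    exact orderOf_dvd_card
  have h1 := IsCyclic.card_orderOf_eq_totient (α := F ≃+* F) hd
  rw [Nat.totient_two, Finset.card_eq_one] at h1
  obtain ⟨a, ha⟩ := h1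
  have hσm : σ ∈ ({a} : Finset (F ≃+* F)) := by
    rw [← ha, Finset.mem_filter]
    exact ⟨Finset.mem_univ _, hσ⟩
  have hτm : τ ∈ ({a} : Finset (F ≃+* F)) := by
    rw [← ha, Finset.mem_filter]
    exact ⟨Finset.mem_univ _, hτ⟩
  rw [Finset.mem_singleton] at hσm hτm
  rw [hσm, hτm]

end Gal

end Cfsg.Agent.Lib.Helper5.UBal
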